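import Cfsg.Agent.H802.R2.FTwoAbs
import Cfsg.Agent.H706.Gow.FourRgd

/-!
# S4829, `p = 2`, `F₄(2)`: `H706.Gow.ratOdd_of_ret_four` with the constituent (helper802)
-/

set_option autoImplicit false
set_option linter.unusedSectionVars false

open scoped ComplexConjugate
open Cfsg

namespace Cfsg.Agent.H802.R2.FTwo

open Cfsg.Agent.OddOrderCharacters.Clifford Cfsg.Agent.Characters Cfsg.Agent.H53.HC
  Cfsg.Agent.H627.Gow Cfsg.Agent.H636.Gow Cfsg.Agent.H706.Gow Cfsg.Agent.H707.OddLift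

open CoxeterSystem Cfsg.Agent.ChevalleyStructure.CoxeterGeom Cfsg.Agent.Tits.Roots Cfsg.Agent.Tits.Core
  Cfsg.Agent.Tits.Exchange Cfsg.Agent.Nodes.Reps Cfsg.Agent.Nodes.BNOf Cfsg.Agent.Nodes.StabComb
  Cfsg.Agent.Nodes.Bruhat Cfsg.Agent.Nodes.OppDec Cfsg.Agent.Nodes.LeviDec

variable {I W Y : Type*} [Fintype I] [DecidableEq I] [Group W] [Group Y] {M : CoxeterMatrix I}
  {cs : CoxeterSystem M W} {A : I → I → ℤ} {h : IsCartan M A} {p : ℕ} {T : Subgroup Y} {n : I → Y}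
  {X : (I → ℤ) → Subgroup Y}

variable {K K' : Set I} {c : ↥(PJ cs h T X (K ∪ K')) →* ↥(MJ cs h X K)}

/-- **Norm four**, with the constituent. -/
theorem exists_rho_of_ret_four {Y : Type*} [Group Y] {T : Subgroup Y} {n : I → Y} {X : (I → ℤ) → Subgroup Y}
    {c : ↥(PJ cs h T X (K ∪ K')) →* ↥(MJ cs h X K)} (R : RGD cs h 2 T n X) [Finite W] [Fintype Y]
    (hG : GG cs h T X = ⊤) (ho : Orth A K K') (hc : Ret cs h T X K K' c)
    (hcen : ∀ z ∈ MJ cs h X K, (∀ m ∈ MJ cs h X K, z * m = m * z) → z = 1) (hK : K.Nonempty)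
    {θ : ↥(MJ cs h X K) → ℂ} (hθ : IsIrrCharacter _ θ) (hv : Van cs h X K θ)
    (hrat : ∀ m, ∃ q : ℚ, θ m = q) {d : ℕ} (hd : Odd d) (hd1 : θ 1 = d) (hn : (Sset R K K' θ θ).ncard ≤ 4)
    {E : Set I} (hKE : K ∪ K' ⊆ E) {r : W} (hr : r ∈ WJ cs E)
    (hr1 : r ∉ WJ cs (K ∪ K')) (hrP : Perm cs h K r) {gr : Y} (hgr : Rp cs R.nsys r gr)
    (hrθ : ∀ (m : Y) (hm : m ∈ MJ cs h X K), θ ⟨m, hm⟩ = θ ⟨gr⁻¹ * m * gr, conj_mem_MJ R hgr hrP hm⟩)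
    (hE : ∀ w ∈ WJ cs E, Min cs h (K ∪ K') w → Perm cs h K w → w = 1 ∨ w = r)
    {w₁ : W} (hw1 : w₁ ∉ WJ cs E) (h1E : Perm cs h E w₁) (h1J : Perm cs h (K ∪ K') w₁) (h1K : Perm cs h K w₁)
    {g₁ : Y} (hg1 : Rp cs R.nsys w₁ g₁)
    (h1θ : ∀ (m : Y) (hm : m ∈ MJ cs h X K), θ ⟨m, hm⟩ = θ ⟨g₁⁻¹ * m * g₁, conj_mem_MJ R hg1 h1K hm⟩) :
    ∃ n : ℕ, classInner (indFun (PJ cs h T X (K ∪ K')) (θ ∘ c)) (indFun (PJ cs h T X (K ∪ K')) (θ ∘ c)) = n ∧ n ≤ 4 ∧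
      ∃ ρ : IrrCharacter Y, OddDeg (ρ : Y → ℂ) ∧ (∀ g, ∃ q : ℚ, (ρ : Y → ℂ) g = q) ∧
        classInner (indFun (PJ cs h T X (K ∪ K')) (θ ∘ c)) (ρ : Y → ℂ) ≠ 0 := by
  classical
  have hp : Fact (Nat.Prime 2) := ⟨Nat.prime_two⟩
  have : Fintype ↥(PJ cs h T X (K ∪ K')) := Fintype.ofFinite _
  have : Fintype ↥(PJ cs h T X E) := Fintype.ofFinite _
  obtain ⟨m, hm, hm4⟩ := inner_le_ncard R hG ho hc hθ hθ hv
  refine ⟨m, hm, hm4.trans hn, ?_⟩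
  refine exists_rho_of_four (P := PJ cs h T X (K ∪ K')) (E := PJ cs h T X E) (PJ_mono hKE R) (Θ := θ ∘ c) (hc.irr hθ) ?_
    (fun x => hrat _) hd (by rw [Function.comp_apply, map_one, hd1]) (odd_index_PJ R hG _) hm (hm4.trans hn)
    (inner_sub_eq R hG ho hc hcen hθ hv hKE hr hr1 hrP hgr hrθ hE) (w := g₁) ?_ ?_ ?_
  · intro he
    obtain ⟨j, hj⟩ := hK
    have : Fintype (rad cs h X K j) := Fintype.ofFinite _
    have h1 := hv j hj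
    have h2 : ∀ u : rad cs h X K j, θ ⟨u, rad_le_MJ K j u.2⟩ = 1 := by
      intro u
      have h3 := congrFun he ⟨u, MJ_le_left (rad_le_MJ K j u.2)⟩
      rw [Function.comp_apply, hc.fix _ (rad_le_MJ K j u.2), Pi.one_apply] at h3
      exact h3
    rw [Finset.sum_congr rfl fun u _ => h2 u, Finset.sum_const, nsmul_eq_mul, mul_one] at h1
    have h4 : (Finset.univ : Finset (rad cs h X K j)).card ≠ 0 := by
      rw [Finset.card_univ]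
      exact Fintype.card_ne_zero
    exact h4 (by exact_mod_cast h1)
  · exact fun h1 => hw1 (mem_WJ_of_mem_PJ R hg1 h1)
  · exact fun x hx hx' => mem_PJ_of_conj R hKE hg1 h1E h1J hx hx'
  · intro x hx hx'
    rw [Function.comp_apply, Function.comp_apply,
      show c ⟨x, hx⟩ = ⟨(c ⟨x, hx⟩ : ↥(MJ cs h X K)), (c ⟨x, hx⟩).2⟩ from rfl, h1θ _ (c ⟨x, hx⟩).2]
    congr 1
    apply Subtype.ext
    exact (Ret.conj_all R ho hc hcen (rp_mem_normalizer_MJ R hg1 h1K) x hx hx').symm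

end Cfsg.Agent.H802.R2.FTwo
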