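import Cfsg.Agent.S0242
import Cfsg.Agent.H497.Gow.Node
import Cfsg.Agent.H310.R2.Two

/-!
# S4829, `p = 2`, `F₄(2)`: `SL₂(2)` (helper802)

* `eta_hom` : the rational character of odd degree of `SL₂(2)` is the homomorphism with value `-1` at `sx 1`, `sy 1`;
* `eta_eq` : it is the cuspidal character.
-/

set_option autoImplicit false
set_option linter.unusedSectionVars false

open scoped ComplexConjugate MatrixGroups
open Cfsg

namespace Cfsg.Agent.H802.R2.FTwo

open Cfsg.Agent.Characters Cfsg.Agent.H497.Gow Cfsg.Agent.H310.R2 Cfsg.Agent.H636.Gow.CuspSL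
open Cfsg.Agent.OddOrderCharacters.Clifford (classInner_apply)
open Cfsg.Agent.KFacts.RgdChevCoord (sx sy)

section sl

universe u

variable {F : Type u} [Field F]

theorem eq_one_of_two [Finite F] (hF : Nat.card F = 2) {a : F} (ha : a ≠ 0) : a = 1 := by
  have : Fintype F := Fintype.ofFinite F
  have h1 := FiniteField.pow_card_sub_one_eq_one a ha
  rw [← Nat.card_eq_fintype_card, hF] at h1
  simpa using h1

/-- the square of the degree of an irreducible character is at most the order -/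
theorem deg_sq_le {G : Type*} [Group G] [Fintype G] {χ : G → ℂ} (hχ : IsIrrCharacter G χ) {d : ℕ} (h1 : χ 1 = d) :
    d ^ 2 ≤ Fintype.card G := by
  have h2 := Core.classInner_irr_self hχ
  rw [classInner_apply, Nat.card_eq_fintype_card] at h2
  have h3 : (Fintype.card G : ℂ) ≠ 0 := Nat.cast_ne_zero.2 Fintype.card_ne_zero
  have h4 : ∑ g : G, χ g * (starRingEnd ℂ) (χ g) = (Fintype.card G : ℂ) := by
    field_simp at h2
    exact h2
  have h5 : ∑ g : G, Complex.normSq (χ g) = (Fintype.card G : ℝ) := by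
    have h6 : ((∑ g : G, Complex.normSq (χ g) : ℝ) : ℂ) = ((Fintype.card G : ℝ) : ℂ) := by
      push_cast
      rw [← h4]
      exact Finset.sum_congr rfl fun g _ => (Complex.mul_conj _).symm
    exact_mod_cast h6
  have h6 : Complex.normSq (χ 1) ≤ ∑ g : G, Complex.normSq (χ g) :=
    Finset.single_le_sum (f := fun g => Complex.normSq (χ g)) (fun g _ => Complex.normSq_nonneg _) (Finset.mem_univ 1)
  rw [h5, h1, Complex.normSq_natCast] at h6
  have h7 : ((d ^ 2 : ℕ) : ℝ) ≤ (Fintype.card G : ℝ) := by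
    push_cast
    nlinarith
  exact_mod_cast h7

theorem card_SL2 [Finite F] : Nat.card SL(2, F) = Nat.card F * (Nat.card F ^ 2 - 1) := by
  have : Fintype F := Fintype.ofFinite F
  have h1 := Cfsg.Agent.S0242.result (F := F) rfl 2 (by norm_num)
  have hq : 2 ≤ Fintype.card F := Fintype.one_lt_card
  rw [Fin.prod_univ_two] at h1
  have h3 : Fintype.card F ^ 2 - Fintype.card F ^ 1 = (Fintype.card F - 1) * Fintype.card F := by
    rw [Nat.sub_mul, one_mul, pow_one, pow_two]
  simp only [Fin.val_zero, Fin.val_one, pow_zero] at h1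
  rw [h3] at h1
  have h4 : (Fintype.card F - 1) * Nat.card (Matrix.SpecialLinearGroup (Fin 2) F) =
      (Fintype.card F - 1) * (Fintype.card F * (Fintype.card F ^ 2 - 1)) := by rw [h1]; ring
  rw [Nat.card_eq_fintype_card (α := F)]
  exact Nat.eq_of_mul_eq_mul_left (by omega) h4

theorem sy_mul (a b : F) : (sy a * sy b : SL(2, F)) = sy (a + b) := by
  apply Subtype.ext
  change !![1, 0; a, 1] * !![1, 0; b, 1] = (!![1, 0; a + b, 1] : Matrix (Fin 2) (Fin 2) F)
  ext i j
  fin_cases i <;> fin_cases j <;> simp [Matrix.mul_apply, Fin.sum_univ_two]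

theorem sy_zero : (sy (0 : F)) = 1 := by
  apply Subtype.ext
  change (!![1, 0; 0, 1] : Matrix (Fin 2) (Fin 2) F) = 1
  rw [Matrix.one_fin_two]

theorem sx_sq_one [CharP F 2] : (sx 1 * sx 1 : SL(2, F)) = 1 := by
  rw [← sx_add, CharTwo.add_self_eq_zero, sx_zero]

theorem sy_sq_one [CharP F 2] : (sy 1 * sy 1 : SL(2, F)) = 1 := by
  rw [sy_mul, CharTwo.add_self_eq_zero, sy_zero]

theorem sx_ne_one : (sx 1 : SL(2, F)) ≠ 1 := by
  intro h1
  have h2 := congrFun (congrFun (congrArg Subtype.val h1) 0) 1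
  change (1 : F) = (1 : Matrix (Fin 2) (Fin 2) F) 0 1 at h2
  simp at h2

theorem sy_ne_one : (sy 1 : SL(2, F)) ≠ 1 := by
  intro h1
  have h2 := congrFun (congrFun (congrArg Subtype.val h1) 1) 0
  change (1 : F) = (1 : Matrix (Fin 2) (Fin 2) F) 1 0 at h2
  simp at h2

/-- homomorphisms of `SL₂(2)` -/
theorem hom_ext_two [Finite F] (hF : Nat.card F = 2) {H : Type*} [Group H] {f f' : SL(2, F) →* H}
    (h1 : f (sx 1) = f' (sx 1)) (h2 : f (sy 1) = f' (sy 1)) : f = f' := by
  refine MonoidHom.ext fun g => ?_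
  refine sl_mem (S := f.eqLocus f') (fun u => ?_) (fun u => ?_) g
  · change f (sx u) = f' (sx u)
    by_cases hu : u = 0
    · rw [hu, sx_zero, map_one, map_one]
    · rw [eq_one_of_two hF hu, h1]
  · change f (sy u) = f' (sy u)
    by_cases hu : u = 0
    · rw [hu, sy_zero, map_one, map_one]
    · rw [eq_one_of_two hF hu, h2]

theorem unit_sq {z : ℂˣ} (h : z * z = 1) : z = 1 ∨ z = -1 := by
  have h1 : (z : ℂ) * z = 1 := by
    rw [← Units.val_mul, h, Units.val_one]
  rcases mul_self_eq_one_iff.1 h1 with h2 | h2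
  · exact Or.inl (Units.ext h2)
  · exact Or.inr (Units.ext h2)

theorem eta_hom [Finite F] [CharP F 2] [Fintype SL(2, F)] (hF : Nat.card F = 2) {η : SL(2, F) → ℂ} (E : EtaP F η) :
    ∃ f : SL(2, F) →* ℂˣ, (η = fun g => (f g : ℂ)) ∧ f (sx 1) = -1 ∧ f (sy 1) = -1 := by
  obtain ⟨d, hd, hd1⟩ := E.odd
  have h1 := deg_sq_le E.irr hd1
  rw [← Nat.card_eq_fintype_card, card_SL2, hF] at h1
  have hd0 : d = 1 := by
    obtain ⟨k, rfl⟩ := hd
    have h2 : k = 0 := by
      by_contra h3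
      have h4 : 3 ^ 2 ≤ (2 * k + 1) ^ 2 := Nat.pow_le_pow_left (by omega) 2
      have h5 : (3 : ℕ) ^ 2 ≤ 2 * (2 ^ 2 - 1) := h4.trans h1
      exact absurd h5 (by decide)
    omega
  obtain ⟨f, hf⟩ := Linear.exists_hom_of_isIrrCharacter E.irr (by rw [hd1, hd0, Nat.cast_one])
  have o1 : orderOf (sx 1 : SL(2, F)) = 2 := orderOf_eq_prime (by rw [pow_two, sx_sq_one]) sx_ne_one
  have o2 : orderOf (sy 1 : SL(2, F)) = 2 := orderOf_eq_prime (by rw [pow_two, sy_sq_one]) sy_ne_one
  have hxy : f (sx 1) = f (sy 1) := by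
    have h2 := E.ord (sx 1) (sy 1) (by rw [o1, o2])
    rw [hf] at h2
    exact Units.ext h2
  have h2 : f (sx 1) * f (sx 1) = 1 := by rw [← map_mul, sx_sq_one, map_one]
  rcases unit_sq h2 with h3 | h3
  · exfalso
    apply E.ne
    have h4 : f = 1 := hom_ext_two hF (by rw [h3]; rfl) (by rw [← hxy, h3]; rfl)
    rw [hf, h4]
    funext g
    rfl
  · exact ⟨f, hf, h3, by rw [← hxy, h3]⟩

theorem cusp_hom [Finite F] [CharP F 2] (hF : Nat.card F = 2) {χ : SL(2, F) → ℂ} (hχ : CuspTwo F χ) :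
    ∃ f : SL(2, F) →* ℂˣ, (χ = fun g => (f g : ℂ)) ∧ f (sx 1) = -1 ∧ f (sy 1) = -1 := by
  obtain ⟨f, hf⟩ := Linear.exists_hom_of_isIrrCharacter hχ.irr (by
    rw [hχ.one, hF]
    norm_num)
  have hsy : ((sy 1 : SL(2, F)) : Matrix (Fin 2) (Fin 2) F) - 1 = !![0, 0; 1, 0] := by
    change !![1, 0; 1, 1] - (1 : Matrix (Fin 2) (Fin 2) F) = _
    rw [Matrix.one_fin_two]
    ext i j
    fin_cases i <;> fin_cases j <;> simp
  refine ⟨f, hf, ?_, ?_⟩
  · apply Units.ext
    have h1 := hχ.unip (sx 1) sx_ne_one (sx_sq 1)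
    rw [hf] at h1
    exact h1
  · apply Units.ext
    have h1 := hχ.unip (sy 1) sy_ne_one (by
      rw [hsy, pow_two]
      ext i j
      fin_cases i <;> fin_cases j <;> simp [Matrix.mul_apply, Fin.sum_univ_two])
    rw [hf] at h1
    exact h1

/-- the two characters are equal -/
theorem eta_eq [Finite F] [CharP F 2] [Fintype SL(2, F)] (hF : Nat.card F = 2) {η χ : SL(2, F) → ℂ} (E : EtaP F η)
    (hχ : CuspTwo F χ) : η = χ := by
  obtain ⟨f, hf, h1, h2⟩ := eta_hom hF E
  obtain ⟨f', hf', h1', h2'⟩ := cusp_hom hF hχ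
  rw [hf, hf', hom_ext_two hF (h1.trans h1'.symm) (h2.trans h2'.symm)]

end sl

end Cfsg.Agent.H802.R2.FTwo
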