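import Cfsg.Agent.H328.Gow.Rat
import Cfsg.Agent.H328.Gow.CusRat
import Cfsg.Agent.Characters.GaloisBasic

/-!
# S4829, `p = 2`: the Harish-Chandra functions `hcf` of the isometry groups and semilinear maps (helper802)

`F : CForm K V` (symplectic, quadratic, Hermitian: the model of helper477 / helper328), `e : V ≃+ V` semilinear with
respect to `ρ : K ≃+* K`.

* `smap ρ e he W` : the image of the subspace `W`;
* `flagTerm_semi`, `hcf_semi` : `hcf F c g' = hcf F (c ∘ ρ) g` if `g' ∘ e = e ∘ g` and `e` permutes `F.Om k`;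
* `smap_Om` : semisimilitudes permute `F.Om k`;
* `exists_gal` : `ψ_θ ∘ ρ` is a Galois conjugate of the cuspidal character `ψ_θ` of `GL_k(K)`;
* `hcf_semi_psi` : if `c = ψ_θ` and all Galois conjugates of `c` are `c` or `c ∘ ι`, then `hcf F c g' = hcf F c g`.
-/

set_option autoImplicit false
set_option linter.unusedSectionVars false

open scoped ComplexConjugate
open Cfsg

namespace Cfsg.Agent.H802.R2

open Cfsg.Agent.OddOrderCharacters.Clifford Cfsg.Agent.Characters MulAction Module Cfsg.Agent.H53.HC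
  Cfsg.Agent.H477.HC Cfsg.Agent.H328.Gow Cfsg.Agent.H139.Cusp

universe u v w

section Sub

variable {K : Type u} [Field K] {V : Type v} [AddCommGroup V] [Module K V]
variable (ρ : K ≃+* K) (e : V ≃+ V) (he : ∀ (a : K) (v : V), e (a • v) = ρ a • e v)

include he in
theorem symm_smul (a : K) (v : V) : e.symm (a • v) = ρ.symm a • e.symm v := by
  apply e.injective
  rw [e.apply_symm_apply, he, ρ.apply_symm_apply, e.apply_symm_apply]

/-- the image of a subspace under a semilinear bijection -/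
def smap (W : Submodule K V) : Submodule K V where
  carrier := {v | e.symm v ∈ W}
  zero_mem' := by
    change e.symm 0 ∈ W
    rw [map_zero]
    exact W.zero_mem
  add_mem' := fun {a b} ha hb => by
    change e.symm (a + b) ∈ W
    rw [map_add]
    exact W.add_mem ha hb
  smul_mem' := fun c v hv => by
    change e.symm (c • v) ∈ W
    rw [symm_smul ρ e he]
    exact W.smul_mem _ hv

variable {W : Submodule K V}

theorem mem_smap {v : V} : v ∈ smap ρ e he W ↔ e.symm v ∈ W := Iff.rfl

theorem apply_mem_smap {v : V} : e v ∈ smap ρ e he W ↔ v ∈ W := by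
  rw [mem_smap, e.symm_apply_apply]

theorem smap_injective : Function.Injective (smap ρ e he) := by
  intro W W' h
  ext v
  rw [← apply_mem_smap ρ e he, h, apply_mem_smap]

variable {n : ℕ}

/-- the image of a basis -/
noncomputable def sbasis (b : Basis (Fin n) K W) : Basis (Fin n) K (smap ρ e he W) :=
  Basis.mk (v := fun i => (⟨e (b i), (apply_mem_smap ρ e he).2 (b i).2⟩ : smap ρ e he W)) (by
    rw [Fintype.linearIndependent_iff]
    intro g hg i
    have h1 : e (∑ j, ρ.symm (g j) • (b j : V)) = 0 := by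
      rw [map_sum]
      have h2 := congrArg (Subtype.val) hg
      rw [Submodule.coe_sum, Submodule.coe_zero] at h2
      refine Eq.trans (Finset.sum_congr rfl fun j _ => ?_) h2
      rw [he, ρ.apply_symm_apply]
      rfl
    have h3 : ∑ j, ρ.symm (g j) • b j = 0 := by
      apply Subtype.ext
      rw [Submodule.coe_sum]
      exact e.injective (h1.trans (map_zero e).symm)
    have h4 := (Fintype.linearIndependent_iff.1 b.linearIndependent) _ h3 i
    exact ρ.symm.injective (h4.trans (map_zero _).symm)) (by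
    rintro ⟨v, hv⟩ -
    have h1 : (⟨v, hv⟩ : smap ρ e he W) = ∑ j, ρ (b.repr ⟨e.symm v, hv⟩ j) •
        (⟨e (b j), (apply_mem_smap ρ e he).2 (b j).2⟩ : smap ρ e he W) := by
      apply Subtype.ext
      rw [Submodule.coe_sum]
      apply e.symm.injective
      change e.symm v = _
      rw [map_sum]
      have h2 := congrArg Subtype.val (b.sum_repr ⟨e.symm v, hv⟩)
      rw [Submodule.coe_sum] at h2
      change _ = e.symm v at h2
      refine h2.symm.trans (Finset.sum_congr rfl fun j _ => ?_)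
      change _ = e.symm (ρ (b.repr ⟨e.symm v, hv⟩ j) • e (b j))
      rw [← he, e.symm_apply_apply]
      rfl
    rw [h1]
    exact Submodule.sum_mem _ fun j _ => Submodule.smul_mem _ _ (Submodule.subset_span ⟨j, rfl⟩))

theorem sbasis_apply (b : Basis (Fin n) K W) (i : Fin n) : (sbasis ρ e he b i : V) = e (b i) := by
  rw [sbasis, Basis.mk_apply]

theorem sbasis_repr (b : Basis (Fin n) K W) (w : W) (i : Fin n) :
    (sbasis ρ e he b).repr ⟨e w, (apply_mem_smap ρ e he).2 w.2⟩ i = ρ (b.repr w i) := by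
  have h1 : (⟨e w, (apply_mem_smap ρ e he).2 w.2⟩ : smap ρ e he W) = ∑ j, ρ (b.repr w j) • sbasis ρ e he b j := by
    apply Subtype.ext
    rw [Submodule.coe_sum]
    have h2 := congrArg Subtype.val (b.sum_repr w)
    rw [Submodule.coe_sum] at h2
    change e (w : V) = _
    rw [← h2, map_sum]
    refine Finset.sum_congr rfl fun j _ => ?_
    change e (b.repr w j • (b j : V)) = ρ (b.repr w j) • (sbasis ρ e he b j : V)
    rw [he, sbasis_apply]
  rw [h1]
  exact congrFun ((sbasis ρ e he b).repr_sum_self _) i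

theorem finrank_smap (b : Basis (Fin n) K W) : finrank K (smap ρ e he W) = n := by
  rw [finrank_eq_card_basis (sbasis ρ e he b), Fintype.card_fin]

variable {G : Type w} [Group G] (r : G →* (V ≃ₗ[K] V))

theorem map_smap_iff {g g' : G} (hg : ∀ v, r g' (e v) = e (r g v)) :
    (smap ρ e he W).map (r g' : V →ₗ[K] V) = smap ρ e he W ↔ W.map (r g : V →ₗ[K] V) = W := by
  have h1 : (smap ρ e he W).map (r g' : V →ₗ[K] V) = smap ρ e he (W.map (r g : V →ₗ[K] V)) := by
    ext v
    constructor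
    · rintro ⟨x, hx, rfl⟩
      refine ⟨e.symm x, hx, ?_⟩
      change r g (e.symm x) = e.symm (r g' x)
      apply e.injective
      rw [← hg, e.apply_symm_apply, e.apply_symm_apply]
    · rintro ⟨y, hy, hy'⟩
      refine ⟨e y, (apply_mem_smap ρ e he).2 hy, ?_⟩
      change r g' (e y) = v
      rw [hg]
      change r g y = e.symm v at hy'
      rw [hy', e.apply_symm_apply]
  rw [h1]
  exact (smap_injective ρ e he).eq_iff

theorem flagTerm_semi {Ψ : GL (Fin n) K → ℂ} (hΨ : IsClassFunction _ Ψ) {g g' : G}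
    (hg : ∀ v, r g' (e v) = e (r g v)) (b : Basis (Fin n) K W) :
    flagTerm r Ψ g' (smap ρ e he W) =
      flagTerm r (fun A => Ψ (Matrix.GeneralLinearGroup.map (ρ : K →+* K) A)) g W := by
  classical
  have hΨ' : IsClassFunction _ (fun A : GL (Fin n) K => Ψ (Matrix.GeneralLinearGroup.map (ρ : K →+* K) A)) := by
    intro x y
    change Ψ _ = Ψ _
    rw [map_mul, map_mul, map_inv, hΨ]
  by_cases h : W.map (r g : V →ₗ[K] V) = W
  · have h' := (map_smap_iff ρ e he r hg).2 h
    rw [flagTerm_of r _ h, flagTerm_of r _ h', cl_eq hΨ' b, cl_eq hΨ (sbasis ρ e he b)]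
    congr 1
    ext i j
    rw [coe_glE, LinearMap.toMatrix_apply]
    have h1 : ((res (r g') (smap ρ e he W) h' : (smap ρ e he W) ≃ₗ[K] (smap ρ e he W)) :
        (smap ρ e he W) →ₗ[K] (smap ρ e he W)) (sbasis ρ e he b j) =
        ⟨e ((res (r g) W h (b j) : W) : V), (apply_mem_smap ρ e he).2 (res (r g) W h (b j)).2⟩ := by
      apply Subtype.ext
      change r g' (sbasis ρ e he b j : V) = e (r g (b j))
      rw [sbasis_apply, hg]
    rw [h1, sbasis_repr]
    change _ = ρ (((glE b (res (r g) W h) : GL (Fin n) K) : Matrix (Fin n) (Fin n) K) i j)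
    rw [coe_glE, LinearMap.toMatrix_apply]
    rfl
  · have h' : ¬ (smap ρ e he W).map (r g' : V →ₗ[K] V) = smap ρ e he W := fun h' =>
      h ((map_smap_iff ρ e he r hg).1 h')
    unfold flagTerm
    rw [dif_neg h, dif_neg h']

end Sub

section Form

variable {K : Type u} [Field K] {V : Type v} [AddCommGroup V] [Module K V] (F : CForm K V)
variable (ρ : K ≃+* K) (e : V ≃+ V) (he : ∀ (a : K) (v : V), e (a • v) = ρ a • e v)

/-- semisimilitudes permute the totally singular subspaces -/
theorem smap_Om [FiniteDimensional K V] {lam mu : K} (hB : ∀ u v, F.B (e u) (e v) = lam * ρ (F.B u v))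
    (hQ : ∀ v, F.Q (e v) = mu * ρ (F.Q v)) {k : ℕ} {W : Submodule K V} (hW : W ∈ F.Om k) :
    smap ρ e he W ∈ F.Om k := by
  refine ⟨⟨fun v hv => ?_, fun v hv v' hv' => ?_⟩, ?_⟩
  · have h := hQ (e.symm v)
    rw [e.apply_symm_apply, hW.1.1 _ hv, map_zero, mul_zero] at h
    exact h
  · have h := hB (e.symm v) (e.symm v')
    rw [e.apply_symm_apply, e.apply_symm_apply, hW.1.2 _ hv _ hv', map_zero, mul_zero] at h
    exact h
  · exact finrank_smap ρ e he (finBasisOfFinrankEq K W hW.2)

/-- **`hcf` and semilinear maps** -/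
theorem hcf_semi [FiniteDimensional K V] {k : ℕ} [Fintype (F.Om k)] (hOm : ∀ W ∈ F.Om k, smap ρ e he W ∈ F.Om k)
    {c : GL (Fin k) K → ℂ} (hc : IsClassFunction _ c) {g g' : F.iso}
    (hg : ∀ v, (g' : V ≃ₗ[K] V) (e v) = e ((g : V ≃ₗ[K] V) v)) :
    hcf F c g' = hcf F (fun A => c (Matrix.GeneralLinearGroup.map (ρ : K →+* K) A)) g := by
  classical
  rw [hcf_apply, hcf_apply]
  let f : F.Om k → F.Om k := fun W => ⟨smap ρ e he W.1, hOm W.1 W.2⟩
  have hf : Function.Bijective f := Finite.injective_iff_bijective.1 fun W W' h =>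
    Subtype.ext (smap_injective ρ e he (congrArg Subtype.val h))
  refine (Fintype.sum_bijective f hf _ _ fun W => ?_).symm
  exact (flagTerm_semi ρ e he F.iso.subtype hc hg (finBasisOfFinrankEq K W.1 W.2.2)).symm

end Form

section Gal

variable {K : Type u} [Field K] [Finite K] {L : Type w} [Field L] [Finite L] [Algebra K L]

/-- every ring automorphism of a finite field is a power map -/
theorem exists_pow_frob {E : Type*} [Field E] [Finite E] {p : ℕ} [Fact p.Prime] [CharP E p] (ρ : E ≃+* E) :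
    ∃ n : ℕ, ∀ x, ρ x = x ^ p ^ n := by
  let _ : Algebra (ZMod p) E := ZMod.algebra E p
  let f : E ≃ₐ[ZMod p] E := AlgEquiv.ofRingEquiv (f := ρ) fun r =>
    RingHom.congr_fun (RingHom.ext_zmod ((ρ : E →+* E).comp (algebraMap (ZMod p) E)) (algebraMap (ZMod p) E)) r
  obtain ⟨n, hn⟩ := (FiniteField.bijective_frobeniusAlgEquivOfAlgebraic_pow (ZMod p) E).2 f
  refine ⟨n.1, fun x => ?_⟩
  have h1 : ρ x = f x := rfl
  rw [h1, ← hn]
  simp only [AlgEquiv.coe_pow, FiniteField.coe_frobeniusAlgEquivOfAlgebraic_iterate, ZMod.card]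

/-- **`ψ_θ ∘ ρ` is a Galois conjugate of `ψ_θ`** -/
theorem exists_gal (θ : L →*₀ ℂ) (ρ : K ≃+* K) {k : ℕ} (hL : finrank K L = k) :
    ∃ τ : ℂ ≃+* ℂ, ∀ A : GL (Fin k) K, psi L θ (Matrix.GeneralLinearGroup.map (ρ : K →+* K) A) = τ (psi L θ A) := by
  obtain ⟨p, hc⟩ := CharP.exists K
  have hp : p.Prime := (CharP.char_is_prime_or_zero K p).resolve_right fun h => by
    subst h
    have := CharP.charP_to_charZero K
    exact not_finite K
  have hpf : Fact p.Prime := ⟨hp⟩
  have hcL : CharP L p := charP_of_injective_algebraMap (algebraMap K L).injective p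
  obtain ⟨n, hn⟩ := exists_pow_frob (p := p) ρ
  have hcard : (p ^ n).Coprime (Nat.card Lˣ) := by
    obtain ⟨t, ht, ht'⟩ : ∃ t, 0 < t ∧ Nat.card L = p ^ t := by
      let _ := Fintype.ofFinite L
      obtain ⟨t, -, h⟩ := FiniteField.card L p
      exact ⟨t, t.pos, by rw [Nat.card_eq_fintype_card, h]⟩
    apply Nat.Coprime.pow_left
    rw [Nat.Prime.coprime_iff_not_dvd hp]
    intro h1
    rw [Nat.card_units, ht'] at h1
    have h2 : p ∣ p ^ t := dvd_pow_self p ht.ne'
    have h3 : 1 ≤ p ^ t := Nat.one_le_pow _ _ hp.pos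
    have h4 := (Nat.dvd_sub_iff_right h3 h2).1 h1
    exact hp.one_lt.ne' (Nat.dvd_one.1 h4)
  obtain ⟨τ, hτ⟩ := GaloisBasic.exists_ringEquiv_pow (n := Nat.card Lˣ) (m := p ^ n) Nat.card_pos.ne' hcard
  refine ⟨τ, fun A => ?_⟩
  rw [psi_map]
  have hb : Function.Bijective (iterateFrobenius L p n) :=
    Finite.injective_iff_bijective.1 (iterateFrobenius_inj L p n)
  refine psi_sigma ρ (RingEquiv.ofBijective (iterateFrobenius L p n) hb) (fun c => ?_) (fun x => ?_) hL A
  · change iterateFrobenius L p n _ = _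
    rw [iterateFrobenius_def, hn, map_pow]
  · change θ (iterateFrobenius L p n x) = τ (θ x)
    rw [iterateFrobenius_def, map_pow]
    by_cases hx : x = 0
    · rw [hx, map_zero, map_zero, zero_pow (pow_pos hp.pos n).ne']
    · rw [hτ]
      rw [← map_pow]
      have h3 : (Units.mk0 x hx) ^ Nat.card Lˣ = 1 := pow_card_eq_one'
      have h4 : x ^ Nat.card Lˣ = 1 := congrArg Units.val h3
      rw [h4, map_one]

/-- the property of the cuspidal data used below -/
def FieldGal {k : ℕ} (c : GL (Fin k) K → ℂ) : Prop :=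
  ∀ ρ : K ≃+* K, ∃ τ : ℂ ≃+* ℂ, ∀ A : GL (Fin k) K, c (Matrix.GeneralLinearGroup.map (ρ : K →+* K) A) = τ (c A)

theorem fieldGal_psi (θ : L →*₀ ℂ) {k : ℕ} (hL : finrank K L = k) : FieldGal (psi (n := k) (F := K) L θ) :=
  fun ρ => exists_gal θ ρ hL

variable {V : Type v} [AddCommGroup V] [Module K V] (F : CForm K V)

/-- **`hcf F c` is fixed by the semisimilitudes** -/
theorem hcf_semi_fixed [FiniteDimensional K V] [Finite V] [Fintype F.iso] {k : ℕ} (hk : 0 < k) [Fintype (F.Om k)]
    {c : GL (Fin k) K → ℂ} (hc : IsIrrCharacter _ c) (hcusp : IsCusp c) {W₀ : Submodule K V} (hW₀ : W₀ ∈ F.Om k)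
    (hgal : ∀ τ : ℂ ≃+* ℂ, (fun A => τ (c A)) = c ∨ (fun A => τ (c A)) = c ∘ F.iota k) (hcf' : FieldGal c)
    (ρ : K ≃+* K) (e : V ≃+ V) (he : ∀ (a : K) (v : V), e (a • v) = ρ a • e v) {lam mu : K}
    (hB : ∀ u v, F.B (e u) (e v) = lam * ρ (F.B u v)) (hQ : ∀ v, F.Q (e v) = mu * ρ (F.Q v)) {g g' : F.iso}
    (hg : ∀ v, (g' : V ≃ₗ[K] V) (e v) = e ((g : V ≃ₗ[K] V) v)) : hcf F c g' = hcf F c g := by
  rw [hcf_semi F ρ e he (fun W hW => smap_Om F ρ e he hB hQ hW) (Core.isIrr_isClassFunction hc) hg]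
  obtain ⟨τ, hτ⟩ := hcf' ρ
  have h1 : (fun A => c (Matrix.GeneralLinearGroup.map (ρ : K →+* K) A)) = fun A => τ (c A) := funext hτ
  rw [h1, ← hcf_map, hcf_fixed F hk hc hcusp hW₀ hgal]

end Gal

end Cfsg.Agent.H802.R2
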