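import Cfsg.Agent.H710.Gow.PSUTwo
import Cfsg.Agent.H226.R2.Base
import Cfsg.Agent.S0815

/-!
# S4829, `p = 2`: `PSU_3(2^n)`, `2^n ≡ 2 (mod 3)` (helper802)

The character of helper710 is determined by its multiplicities in the linear characters of the Sylow 2-subgroup and so
is fixed by the automorphism which applies `x ↦ x ^ q` to the entries; this automorphism and the inner automorphisms
generate a subgroup of odd index.
-/

set_option autoImplicit false
set_option linter.unusedSectionVars false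
set_option linter.unusedVariables false

namespace Cfsg.Agent.H802.R2.PsuThree

open Matrix Cfsg Cfsg.Agent.LieRecognition Cfsg.Agent.LieRecognition.HermHeis
  Cfsg.Agent.LieRecognition.PSUThreeSylow Cfsg.Agent.LieRecognition.RankOneAbstract
  Cfsg.Agent.SuzukiRankOne Cfsg.Agent.SuzukiRankOne.PSUModel Cfsg.Agent.AschCrit.PSUTorus
  Cfsg.Agent.H710.Cuspidal Cfsg.Agent.H664.R1.U3 Cfsg.Agent.H710.UThree Cfsg.Agent.Characters.Core
  Cfsg.Agent.H710.GUThree Cfsg.Agent.H710.Gow.HeisPar Cfsg.Agent.H710.Gow Cfsg.Agent.H710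
  Cfsg.Agent.H710.Gow.PSUTwo Cfsg.Agent.H770.CY Cfsg.Agent.OddOrderCharacters
  Cfsg.Agent.OddOrderCharacters.IndRes
open scoped ComplexConjugate

universe u

/-! ### the pair is unique -/

section

variable {G A : Type*} [Group G] [Finite G] [Group A] [Fintype A] {H : Subgroup G} {w : G} {i : A →* G}

theorem pair_unique [Fintype G] (hi : Function.Injective i) (D : Data H i.range w) {ψ₁ ψ₂ : A →* ℂˣ}
    (h1 : ∀ x ∈ H, ∀ f : A →* A, (∀ a, x⁻¹ * i a * x = i (f a)) → ψ₁.comp f = ψ₁ → x ∈ i.range)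
    (h2 : ∀ x ∈ H, ∀ f : A →* A, (∀ a, x⁻¹ * i a * x = i (f a)) → ψ₂.comp f = ψ₂ → x ∈ i.range)
    (h12 : ∀ x ∈ H, ∀ f : A →* A, (∀ a, x⁻¹ * i a * x = i (f a)) → ψ₁.comp f ≠ ψ₂) {μ χ : G → ℂ}
    (hμ : IsIrrCharacter G μ) (hχ : IsIrrCharacter G χ)
    (e1 : classInner (μ ∘ i) (fun a => (ψ₁ a : ℂ)) = classInner (μ ∘ i) (fun a => (ψ₂ a : ℂ)) + 1)
    (e2 : classInner (χ ∘ i) (fun a => (ψ₁ a : ℂ)) = classInner (χ ∘ i) (fun a => (ψ₂ a : ℂ)) + 1) : χ = μ := by
  set θ : A → ℂ := fun a => (ψ₁ a : ℂ) - ψ₂ a with hθ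
  have hgen : IsGeneralizedCharacter G (indFun i.range (TIPair.fn hi θ)) := by
    apply isGeneralizedCharacter_indFun
    refine ⟨TIPair.fn hi (fun a => (ψ₁ a : ℂ)), TIPair.fn hi (fun a => (ψ₂ a : ℂ)), ?_, ?_, rfl⟩
    · exact Characters.Linear.isCharacter_hom (ψ₁.comp (TIPair.eqv hi).symm.toMonoidHom)
    · exact Characters.Linear.isCharacter_hom (ψ₂.comp (TIPair.eqv hi).symm.toMonoidHom)
  have hone : indFun i.range (TIPair.fn hi θ) 1 = 0 := by
    rw [indFun_apply_one, TIPair.fn, map_one]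
    simp [hθ]
  obtain ⟨μ₀, ν₀, hμ₀, hν₀, hne, he⟩ := NormTwo.exists_sub_of_norm_two hgen (TIPair.norm_eq hi D h1 h2 h12) hone
  have key : ∀ χ : G → ℂ, IsIrrCharacter G χ →
      classInner (χ ∘ i) (fun a => (ψ₁ a : ℂ)) = classInner (χ ∘ i) (fun a => (ψ₂ a : ℂ)) + 1 → χ = μ₀ := by
    intro χ hχ hp
    have e1 := TIPair.inner_ind hi θ (χ := χ) (isIrr_isClassFunction hχ)
    have e2 : classInner (χ ∘ i) θ = 1 := by
      have e3 : θ = (fun a => (ψ₁ a : ℂ)) - (fun a => (ψ₂ a : ℂ)) := rfl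
      rw [e3, classInner_sub_right, hp]
      ring
    rw [he, classInner_sub_right, e2] at e1
    by_contra hne1
    rw [classInner_irr_ne hχ hμ₀ hne1] at e1
    rcases eq_or_ne χ ν₀ with h5 | h5
    · rw [h5, classInner_irr_self hν₀] at e1
      norm_num at e1
    · rw [classInner_irr_ne hχ hν₀ h5] at e1
      norm_num at e1
  exact (key χ hχ e2).trans (key μ hμ e1).symm

/-- automorphisms of a quotient -/
theorem exists_desc {G H : Type*} [Group G] [Group H] (π : G →* H) (hπ : Function.Surjective π) (b : MulAut G)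
    (hb : ∀ g, π (b g) = 1 ↔ π g = 1) : ∃ β : MulAut H, ∀ g, β (π g) = π (b g) := by
  have hk : π.ker ≤ (π.comp b.toMonoidHom).ker := fun g hg => (hb g).2 hg
  let f : H →* H := π.liftOfSurjective hπ ⟨π.comp b.toMonoidHom, hk⟩
  have hf : ∀ g, f (π g) = π (b g) := fun g => π.liftOfRightInverse_comp_apply _ _ ⟨π.comp b.toMonoidHom, hk⟩ g
  have hfb : Function.Bijective f := by
    constructor
    · rw [injective_iff_map_eq_one]
      intro x hx
      obtain ⟨g, rfl⟩ := hπ x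
      rw [hf] at hx
      exact (hb g).1 hx
    · intro x
      obtain ⟨g, rfl⟩ := hπ x
      exact ⟨π (b⁻¹ g), by rw [hf, MulAut.apply_inv_self]⟩
  exact ⟨MulEquiv.ofBijective f hfb, hf⟩

theorem center_iff {G : Type*} [Group G] (b : MulAut G) (g : G) :
    b g ∈ Subgroup.center G ↔ g ∈ Subgroup.center G := by
  rw [Subgroup.mem_center_iff, Subgroup.mem_center_iff]
  constructor
  · intro h x
    apply b.injective
    rw [map_mul, map_mul]
    exact h (b x)
  · intro h x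
    obtain ⟨y, rfl⟩ := b.surjective x
    rw [← map_mul, ← map_mul, h y]

theorem inn_normal {G : Type*} [Group G] : (MulAut.conj : G →* MulAut G).range.Normal := by
  refine ⟨?_⟩
  rintro _ ⟨s, rfl⟩ g
  refine ⟨g s, ?_⟩
  ext x
  rw [MulAut.mul_apply, MulAut.mul_apply, MulAut.conj_apply, MulAut.conj_apply, map_mul, map_mul, map_inv,
    MulAut.apply_inv_self]

/-- an involution outside `Inn` and `Inn` generate a subgroup in which `Inn` has index two -/
theorem relIndex_inn {G : Type*} [Group G] [Finite G] {β : MulAut G} (hβ : β * β = 1)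
    (hout : β ∉ (MulAut.conj : G →* MulAut G).range) :
    (MulAut.conj : G →* MulAut G).range.relIndex ((MulAut.conj : G →* MulAut G).range ⊔ Subgroup.zpowers β) = 2 := by
  have := inn_normal (G := G)
  rw [sup_comm, Subgroup.relIndex_sup_right]
  have h1 : Nat.card (Subgroup.zpowers β) ∣ 2 := by
    rw [Nat.card_zpowers]
    exact orderOf_dvd_of_pow_eq_one (by rw [pow_two, hβ])
  have h2 := (Subgroup.relIndex_dvd_card (MulAut.conj : G →* MulAut G).range (Subgroup.zpowers β)).trans h1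
  rcases (Nat.dvd_prime Nat.prime_two).1 h2 with h3 | h3
  · exfalso
    rw [Subgroup.relIndex_eq_one] at h3
    exact hout (h3 (Subgroup.mem_zpowers β))
  · exact h3

theorem card_inn {S : Type*} [Group S] [Finite S] [IsSimpleGroup S] (hna : ¬ IsMulCommutative S) :
    Nat.card (MulAut.conj : S →* MulAut S).range = Nat.card S := by
  refine (Nat.card_congr (MonoidHom.ofInjective ?_).toEquiv).symm
  rw [injective_iff_map_eq_one]
  intro s hs
  have h3 : s ∈ Subgroup.center S := by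
    rw [Subgroup.mem_center_iff]
    intro g
    have := DFunLike.congr_fun hs g
    rw [MulAut.conj_apply, MulAut.one_apply, mul_inv_eq_iff_eq_mul] at this
    exact this.symm
  rcases (inferInstance : (Subgroup.center S).Normal).eq_bot_or_eq_top with h4 | h4
  · rw [h4] at h3
    exact Subgroup.mem_bot.1 h3
  · exact absurd ⟨⟨fun a b => by
      have : b ∈ Subgroup.center S := by rw [h4]; exact Subgroup.mem_top _
      exact Subgroup.mem_center_iff.1 this a⟩⟩ hna

end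

/-! ### the automorphism -/

variable {F : Type u} [Field F] [CharP F 2] {σ : F →+* F} [hσ : Fact (∀ x, σ (σ x) = x)]

/-- entrywise `σ` -/
def bf (g : SUJ σ) : SUJ σ :=
  ⟨⟨g.1.1.map σ, by
    have h := RingHom.map_det σ g.1.1
    rw [g.1.2, map_one] at h
    exact h.symm⟩, by
    have h := congrArg (fun M : Matrix (Fin 3) (Fin 3) F => M.map σ) g.2
    change ((g.1.1)ᵀ * Jm F * g.1.1.map σ).map σ = (Jm F).map σ at h
    rw [Matrix.map_mul, Matrix.map_mul, Jm_map] at h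
    exact h⟩

theorem bf_bf (g : SUJ σ) : bf (bf g) = g := by
  apply Subtype.ext
  apply Subtype.ext
  ext i j
  exact hσ.out _

/-- the automorphism -/
def bh (σ : F →+* F) [hσ : Fact (∀ x, σ (σ x) = x)] : MulAut (SUJ σ) where
  toFun := bf
  invFun := bf
  left_inv := bf_bf
  right_inv := bf_bf
  map_mul' g h := by
    apply Subtype.ext
    apply Subtype.ext
    exact Matrix.map_mul

/-- the automorphism of the Sylow subgroup -/
def hf (x : Heis σ) : Heis σ := ⟨σ x.a, σ x.b, by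
  have := congrArg σ x.h
  rwa [map_add, map_mul] at this⟩

theorem hf_injective : Function.Injective (hf (σ := σ)) := by
  intro x y h
  ext
  · exact σ.injective (congrArg Heis.a h)
  · exact σ.injective (congrArg Heis.b h)

theorem bh_emb (x : Heis σ) : bh σ (emb σ x) = emb σ (hf x) := by
  apply Subtype.ext
  apply Subtype.ext
  change (umat x).map σ = umat (hf x)
  ext i j
  fin_cases i <;> fin_cases j <;> simp [umat, hf]

theorem mult_bh [Fintype (Heis σ)] {L : F →+ ZMod 2} (hL : ∀ a, L (σ a) = L a) (χ : SUJ σ → ℂ) (c : F) :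
    mult L (χ ∘ bh σ) c = mult L χ (σ c) := by
  rw [mult, mult, ← inner_bij hf (Finite.injective_iff_bijective.1 hf_injective)
    (χ ∘ emb σ) (fun a => (lin L (σ c) a : ℂ))]
  congr 1
  · funext x
    change χ (bh σ (emb σ x)) = χ (emb σ (hf x))
    rw [bh_emb]
  · funext x
    change ((lin L c x : ℂˣ) : ℂ) = (lin L (σ c) (hf x) : ℂˣ)
    have : lin L c x = lin L (σ c) (hf x) := by
      rw [lin_eq_iff]
      change L (c * x.a) = L (σ c * σ x.a)
      rw [← map_mul, hL]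
    rw [this]

theorem row2_aux [Fintype F] {n : ℕ} (hn : 1 ≤ n) (hs : ∀ x, σ x = x ^ (2 ^ n)) (hF : Nat.card F = (2 ^ n) ^ 2)
    (hmod : 2 ^ n % 3 = 2) (hn1 : n ≠ 1) [IsSimpleGroup (Cfsg.PSU 3 F (2 ^ n))]
    (hna : ¬ IsMulCommutative (Cfsg.PSU 3 F (2 ^ n))) : Row2 (Cfsg.PSU 3 F (2 ^ n)) := by
  classical
  have hq : 1 < 2 ^ n := Nat.one_lt_two_pow (by omega)
  have := Fintype.ofFinite (Heis σ)
  have := Fintype.ofFinite (SUJ σ)
  obtain ⟨π, hπ, hker⟩ := exists_pi (F := F) (σ := σ) (by omega) hs hF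
  have hfin : Finite (Cfsg.PSU 3 F (2 ^ n)) := Finite.of_surjective π hπ
  have := Fintype.ofFinite (Cfsg.PSU 3 F (2 ^ n))
  obtain ⟨x₀, hx₀⟩ := HermHeis.exists_heis_a (σ := σ) hq hs hF 1
  have hx : ∃ x : Heis σ, x.a ≠ 0 := ⟨x₀, by rw [hx₀]; exact one_ne_zero⟩
  have hkB : π.ker ≤ borel σ := by
    intro g hg
    exact center_le_borel hx ((hker g).mp hg)
  have hinj : Function.Injective (π.comp (emb σ)) := by
    rw [injective_iff_map_eq_one]
    intro x h
    exact eq_one_of_mem_center ((hker _).mp h)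
  have hSr : (π.comp (emb σ)).range = (emb σ).range.map π := by
    rw [MonoidHom.range_comp]
  have hD : Data ((borel σ).map π) (π.comp (emb σ)).range (π (wel σ)) := by
    rw [hSr]
    exact data_map data_SUJ π hπ hkB
  obtain ⟨L, a₀, hL, ha₀⟩ := exists_L (σ := σ) (card_fixed (σ := σ) hq hs hF).2
  obtain ⟨γ, hγ, hcov, hnc⟩ := exists_gamma (σ := σ) hn hs hF hmod
  have hγ0 : γ ≠ 0 := left_ne_zero_of_mul_eq_one hγ
  have hsur := exists_heis_a (σ := σ) hq hs hF
  -- the action of the Borel subgroup on the linear characters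
  have hact : ∀ x ∈ (borel σ).map π, ∀ f : Heis σ →* Heis σ,
      (∀ a, x⁻¹ * (π.comp (emb σ)) a * x = (π.comp (emb σ)) (f a)) →
      ∃ (u : Heis σ) (α : F) (h0 : α ≠ 0), x = π (emb σ u * tel σ α h0) ∧
        ∀ a, a.a = α ^ 2 / σ α * (f a).a := by
    rintro _ ⟨h, hh, rfl⟩ f hf
    obtain ⟨_, ⟨u, rfl⟩, t, ht, rfl⟩ := exists_decomp data_SUJ hT hh
    obtain ⟨α, h0, rfl⟩ := eq_tel ht
    refine ⟨u, α, h0, rfl, fun a => ?_⟩
    have e1 : (π.comp (emb σ)) (u⁻¹ * a * u) = (π.comp (emb σ)) (scal α h0 (f a)) := by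
      have e2 : emb σ (scal α h0 (f a)) = tel σ α h0 * emb σ (f a) * (tel σ α h0)⁻¹ := by
        rw [tel_mul, mul_inv_cancel_right]
      have e3 := hf a
      simp only [MonoidHom.comp_apply] at e3 ⊢
      rw [e2, map_mul π, map_mul π, ← e3, map_mul, map_mul, map_mul, map_mul, map_inv, map_inv, map_inv,
        map_mul]
      group
    have e4 := congrArg Heis.a (hinj e1)
    have e5 : (u⁻¹ * a * u).a = a.a := by
      change u.a + a.a + u.a = a.a
      linear_combination CharTwo.add_self_eq_zero u.a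
    rw [← e5, e4]
    rfl
  have hstab : ∀ c : F, c ≠ 0 → ∀ x ∈ (borel σ).map π, ∀ f : Heis σ →* Heis σ,
      (∀ a, x⁻¹ * (π.comp (emb σ)) a * x = (π.comp (emb σ)) (f a)) →
      (lin L c : Heis σ →* ℂˣ).comp f = lin L c → x ∈ (π.comp (emb σ)).range := by
    intro c hc x hxB f hf hfix
    obtain ⟨u, α, h0, rfl, hk⟩ := hact x hxB f hf
    have h1 : σ α ≠ 0 := (map_ne_zero σ).mpr h0
    have hk0 : α ^ 2 / σ α ≠ 0 := div_ne_zero (pow_ne_zero 2 h0) h1
    have e1 : c * (α ^ 2 / σ α)⁻¹ = c := by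
      apply lin_inj (σ := σ) ha₀ hsur
      intro a
      have e2 := DFunLike.congr_fun hfix a
      rw [MonoidHom.comp_apply, lin_eq_iff] at e2
      have e3 : (f a).a = (α ^ 2 / σ α)⁻¹ * a.a := by
        rw [hk a, inv_mul_cancel_left₀ hk0]
      rw [mul_assoc, ← e3, e2]
    have e4 : (α ^ 2 / σ α)⁻¹ = 1 := mul_left_cancel₀ hc (e1.trans (mul_one c).symm)
    have e5 : α ^ 2 / σ α = 1 := by rw [inv_eq_one] at e4; exact e4
    have e6 : π (tel σ α h0) = 1 := (hker _).2 (tel_mem_center e5)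
    rw [map_mul, e6, mul_one]
    exact ⟨u, rfl⟩
  have hst12 : ∀ x ∈ (borel σ).map π, ∀ f : Heis σ →* Heis σ,
      (∀ a, x⁻¹ * (π.comp (emb σ)) a * x = (π.comp (emb σ)) (f a)) →
      (lin L 1 : Heis σ →* ℂˣ).comp f ≠ lin L γ := by
      intro x hxB f hf hfix
      obtain ⟨u, α, h0, rfl, hk⟩ := hact x hxB f hf
      have h1 : σ α ≠ 0 := (map_ne_zero σ).mpr h0
      have hk0 : α ^ 2 / σ α ≠ 0 := div_ne_zero (pow_ne_zero 2 h0) h1
      obtain ⟨β, hβ⟩ := cube_of_tel (σ := σ) hs hmod h0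
      apply hnc β
      rw [← hβ]
      apply lin_inj (σ := σ) ha₀ hsur
      intro a
      have e2 := DFunLike.congr_fun hfix a
      rw [MonoidHom.comp_apply, lin_eq_iff, one_mul] at e2
      have e3 : (f a).a = (α ^ 2 / σ α)⁻¹ * a.a := by
        rw [hk a, inv_mul_cancel_left₀ hk0]
      rw [← e2, e3]
  obtain ⟨μ, hμ, hμp, hμr⟩ := TIPair.exists_pair (ψ₁ := lin L 1) (ψ₂ := lin L γ) hinj hD
    (hstab 1 one_ne_zero) (hstab γ hγ0) hst12
  have huniq : ∀ χ : Cfsg.PSU 3 F (2 ^ n) → ℂ, IsIrrCharacter _ χ →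
      classInner (χ ∘ (π.comp (emb σ))) (fun a => (lin L 1 a : ℂ)) =
        classInner (χ ∘ (π.comp (emb σ))) (fun a => (lin L γ a : ℂ)) + 1 → χ = μ := fun χ hχ h =>
    pair_unique (ψ₁ := lin L 1) (ψ₂ := lin L γ) hinj hD (hstab 1 one_ne_zero) (hstab γ hγ0) hst12 hμ hχ hμp h
  -- the inflation
  set χ : SUJ σ → ℂ := μ ∘ π with hχdef
  have hχ : IsIrrCharacter (SUJ σ) χ := isIrr_comp π hπ hμ
  have hMex : ∀ c : F, ∃ m : ℕ, mult L χ c = m := fun c =>
    classInner_isNat (isCharacter_comp (emb σ) (isIrr_isCharacter hχ)) (Characters.Linear.isCharacter_hom _)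
  choose M hM using hMex
  have hpair : M 1 = M γ + 1 := by
    have e : mult L χ 1 = mult L χ γ + 1 := hμp
    rw [hM, hM] at e
    exact_mod_cast e
  obtain ⟨d, hd0, hd⟩ := isIrr_apply_one hμ
  have hdχ : χ 1 = d := by rw [hχdef, Function.comp_apply, map_one, hd]
  have hodd := degree_odd hn hs hF hL ha₀ hχ hM hγ hpair hcov hnc hdχ
  have hfix : ∀ (τ : ℂ ≃+* ℂ) (g), τ (μ g) = μ g := by
    intro τ
    have key : ∀ (c : F) (a : Heis σ), τ (lin L c a : ℂˣ) = (lin L c a : ℂˣ) := by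
      intro c a
      rw [lin_apply, sg]
      split_ifs <;> simp
    exact hμr τ (key 1) (key γ)
  obtain ⟨hM1, hMγ, hMγ2⟩ := mult_orbits hn hs hF hL ha₀ hχ hM hγ hpair
  have hσγ : M (σ γ) = M (γ ^ 2) := by
    have e1 : σ γ = γ ^ 2 * (γ⁻¹) ^ 3 := by
      have e2 : σ γ = γ⁻¹ := eq_inv_of_mul_eq_one_right hγ
      rw [e2]
      field_simp
    have e3 := mult_cube L (isIrr_isClassFunction hχ) γ⁻¹ (inv_ne_zero hγ0) (γ ^ 2)
    rw [← e1, hM, hM] at e3
    exact_mod_cast e3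
  -- the field automorphism
  have hπ1 : ∀ (b : MulAut (SUJ σ)) (g : SUJ σ), π (b g) = 1 ↔ π g = 1 := fun b g => by
    rw [hker, hker, center_iff]
  obtain ⟨β, hβ⟩ := exists_desc π hπ (bh σ) (hπ1 _)
  have hββ : β * β = 1 := by
    ext x
    obtain ⟨g, rfl⟩ := hπ x
    rw [MulAut.mul_apply, hβ, hβ, MulAut.one_apply]
    exact congrArg π (bf_bf g)
  have hβμ : (fun x => μ (β x)) = μ := by
    have hirr : IsIrrCharacter _ (fun x => μ (β x)) := isIrr_comp β.toMonoidHom β.surjective hμ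
    apply huniq _ hirr
    have e0 : ∀ c : F, classInner ((fun x => μ (β x)) ∘ (π.comp (emb σ))) (fun a => (lin L c a : ℂ)) =
        mult L (χ ∘ bh σ) c := by
      intro c
      rw [mult]
      congr 1
      funext x
      change μ (β (π (emb σ x))) = μ (π (bh σ (emb σ x)))
      rw [hβ]
    rw [e0, e0, mult_bh hL, mult_bh hL, map_one, hM, hM, hσγ, hM1, hMγ2]
    norm_num
  -- it is not inner
  have hout : β ∉ (MulAut.conj : Cfsg.PSU 3 F (2 ^ n) →* MulAut (Cfsg.PSU 3 F (2 ^ n))).range := by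
    rintro ⟨s, hs'⟩
    obtain ⟨δ, hδ⟩ := exists_desc π hπ (MulEquiv.ofBijective (cj γ hγ) (cj_bijective γ hγ)) (hπ1 _)
    have hδ' : ∀ g, δ (π g) = π (cj γ hγ g) := hδ
    have hirr : IsIrrCharacter _ (fun x => μ (δ x)) := isIrr_comp δ.toMonoidHom δ.surjective hμ
    have e1 : (fun x => μ (δ x)) ∘ π = χ ∘ cj γ hγ := by
      funext g
      change μ (δ (π g)) = μ (π (cj γ hγ g))
      rw [hδ']
    have e2 : (χ ∘ cj γ hγ) ∘ bh σ = χ ∘ cj γ hγ := by
      rw [← e1]
      funext g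
      change μ (δ (π (bh σ g))) = μ (δ (π g))
      rw [← hβ, ← hs', MulAut.conj_apply]
      exact isIrr_isClassFunction hirr (π g) s
    have e3 := mult_bh hL (χ ∘ cj γ hγ) γ
    rw [e2, mult_cj, mult_cj, mul_comm (σ γ), hγ, ← pow_two, hM, hM, hM1, hMγ2] at e3
    norm_num at e3
  -- the index
  have hodd' : Odd ((MulAut.conj : Cfsg.PSU 3 F (2 ^ n) →* MulAut (Cfsg.PSU 3 F (2 ^ n))).range ⊔
      Subgroup.zpowers β).index := by
    have h2 : Fact (Nat.Prime 2) := ⟨Nat.prime_two⟩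
    have c1 := S0815.result 2 n hn rfl (by rw [← Nat.card_eq_fintype_card, hF]) 3 le_rfl (F := F) (by
      rintro ⟨-, h⟩
      apply hn1
      exact Nat.pow_right_injective (le_refl 2) (h.trans (pow_one 2).symm))
    have c2 := (MulAut.conj : Cfsg.PSU 3 F (2 ^ n) →* MulAut (Cfsg.PSU 3 F (2 ^ n))).range.card_mul_index
    rw [card_inn hna, c1, mul_comm] at c2
    have c3 := Nat.eq_of_mul_eq_mul_right Nat.card_pos c2
    have c4 := Subgroup.relIndex_mul_index
      (le_sup_left : (MulAut.conj : Cfsg.PSU 3 F (2 ^ n) →* MulAut (Cfsg.PSU 3 F (2 ^ n))).range ≤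
        (MulAut.conj : Cfsg.PSU 3 F (2 ^ n) →* MulAut (Cfsg.PSU 3 F (2 ^ n))).range ⊔ Subgroup.zpowers β)
    rw [relIndex_inn hββ hout, c3] at c4
    have c5 : ((MulAut.conj : Cfsg.PSU 3 F (2 ^ n) →* MulAut (Cfsg.PSU 3 F (2 ^ n))).range ⊔
        Subgroup.zpowers β).index = Nat.gcd 3 (2 ^ n + 1) * n := by
      have : 2 * ((MulAut.conj : Cfsg.PSU 3 F (2 ^ n) →* MulAut (Cfsg.PSU 3 F (2 ^ n))).range ⊔
        Subgroup.zpowers β).index = 2 * (Nat.gcd 3 (2 ^ n + 1) * n) := by rw [c4]; ring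
      omega
    rw [c5]
    apply Odd.mul
    · exact Odd.of_dvd_nat (by decide : Odd 3) (Nat.gcd_dvd_left _ _)
    · rw [← Nat.not_even_iff_odd]
      rintro ⟨m, hm⟩
      rw [hm, ← two_mul, pow_mul] at hmod
      have : (2 ^ 2) ^ m % 3 = 1 := by
        rw [Nat.pow_mod]
        norm_num
      omega
  refine H226.R2.row2_of_odd_index hodd' ⟨μ, hμ, ?_, ⟨d, hodd, hd⟩, fun g => ?_, sup_le ?_ ?_⟩
  · intro h1
    have e0 := mult_zero hn hs hF hL ha₀ hχ hM hγ hpair
    have e1 := hM 0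
    rw [e0, mult, hχdef, h1] at e1
    have e2 : ((1 : Cfsg.PSU 3 F (2 ^ n) → ℂ) ∘ π) ∘ emb σ = (1 : Heis σ → ℂ) := rfl
    have e3 : (fun a : Heis σ => ((lin L 0 a : ℂˣ) : ℂ)) = (1 : Heis σ → ℂ) := by
      funext a
      rw [lin_apply, zero_mul, map_zero]
      simp [sg]
    rw [e2, e3, classInner_irr_self isIrr_one] at e1
    norm_num at e1
  · apply Characters.GaloisBasic.exists_rat_of_forall_ringEquiv
    · exact (Characters.GaloisBasic.isIntegral_apply (isIrr_isCharacter hμ) g).tower_top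
    · intro τ
      exact hfix τ g
  · exact H226.R2.inner_le_stab (isIrr_isClassFunction hμ)
  · rw [Subgroup.zpowers_le]
    exact fun x => congrFun hβμ x

/-- **`PSU_3(2^n)`, `2^n ≡ 2 (mod 3)`, `n ≥ 2`** -/
theorem row2_psu_three (F : Type u) [Field F] [Fintype F] [CharP F 2] (q : ℕ) (hF : Fintype.card F = q ^ 2)
    (hq : q ≠ 2) (h3 : q % 3 = 2) [IsSimpleGroup (Cfsg.PSU 3 F q)] (hna : ¬ IsMulCommutative (Cfsg.PSU 3 F q)) :
    Row2 (Cfsg.PSU 3 F q) := by
  obtain ⟨k, hk, hk2⟩ := FiniteField.card F 2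
  have h1 : q ^ 2 = 2 ^ (k : ℕ) := by rw [← hF, hk2]
  have h2 : q ∣ 2 ^ (k : ℕ) := by rw [← h1]; exact dvd_pow_self q (by norm_num)
  obtain ⟨n, -, rfl⟩ := (Nat.dvd_prime_pow Nat.prime_two).1 h2
  have hn : 1 ≤ n := by
    rcases Nat.eq_zero_or_pos n with rfl | h
    · exfalso
      have := Fintype.one_lt_card (α := F)
      rw [hF] at this
      norm_num at this
    · exact h
  have hF' : Nat.card F = (2 ^ n) ^ 2 := by rw [Nat.card_eq_fintype_card, hF]
  have hs : ∀ x, iterateFrobenius F 2 n x = x ^ (2 ^ n) := fun x => iterateFrobenius_def 2 n x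
  have hσ : Fact (∀ x, iterateFrobenius F 2 n (iterateFrobenius F 2 n x) = x) := ⟨by
    intro x
    rw [hs, hs, ← pow_mul, ← pow_two, ← hF]
    exact FiniteField.pow_card x⟩
  exact row2_aux (σ := iterateFrobenius F 2 n) hn hs hF' h3 (by rintro rfl; exact hq (pow_one 2)) hna

end Cfsg.Agent.H802.R2.PsuThree
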