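import Cfsg.Agent.H802.R2.Psu
import Cfsg.Agent.H802.R2.PsuThree
import Cfsg.Agent.H776.CY.Congr
import Cfsg.Prelude.Def_LieTypeChar

/-!
# S4829, `p = 2`: `PSU_n(2^f)` (helper802)
-/

set_option autoImplicit false

namespace Cfsg.Agent.H802.R2

open Cfsg Cfsg.Agent.H770.CY

universe u

/-- **`PSU_n(q)`, `n ≥ 3`, `q` even** -/
theorem row2_psu (F : Type u) [Field F] [Fintype F] [CharP F 2] (n q : ℕ) (hF : Fintype.card F = q ^ 2) (hn : 3 ≤ n)
    (h32 : ¬ (n = 3 ∧ q = 2)) [IsSimpleGroup (PSU n F q)] (hna : ¬ IsMulCommutative (PSU n F q)) :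
    Row2 (PSU n F q) := by
  rcases (by omega : n = 3 ∨ 4 ≤ n) with rfl | h4
  · have hq : Nat.card F = q ^ 2 := by rw [Nat.card_eq_fintype_card, hF]
    rcases three_cases hq with h3 | h3
    · exact row2_psu_one 3 q hF le_rfl h3
    · exact PsuThree.row2_psu_three F q hF (fun h => h32 ⟨rfl, h⟩) h3 hna
  · exact row2_psu_four n q hF h4

theorem nonab_of_equiv {X Y : Type*} [Group X] [Group Y] (e : X ≃* Y) (hna : ¬ IsMulCommutative X) :
    ¬ IsMulCommutative Y := fun h => hna ⟨⟨fun a b => e.injective (by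
      rw [map_mul, map_mul]
      exact h.is_comm.comm _ _)⟩⟩

/-- **the family** -/
theorem rowFor2_psu : RowFor2 (fun X _ => IsPSUChar 2 X) := by
  intro X _ _ _ hna hX
  obtain ⟨F, _, _, hc, n, q, h1, h2, h3, ⟨e⟩⟩ := hX
  have hs : IsSimpleGroup (PSU n F q) := e.symm.isSimpleGroup
  exact H776.CY.Row2.congr e (row2_psu F n q h1 h2 h3 (nonab_of_equiv e hna))

/-- the two cases of `H680.GowLie.EvenCases` -/
theorem rowFor2_psu_four : RowFor2 (fun X _ => ∃ (F : Type) (_ : Field F) (_ : Fintype F) (_ : CharP F 2) (n q : ℕ),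
    Fintype.card F = q ^ 2 ∧ 4 ≤ n ∧ Nonempty (X ≃* PSU n F q)) := by
  intro X _ _ _ hna hX
  obtain ⟨F, _, _, hc, n, q, h1, h2, ⟨e⟩⟩ := hX
  exact H776.CY.Row2.congr e (row2_psu_four n q h1 h2)

theorem rowFor2_psu_three : RowFor2 (fun X _ => ∃ (F : Type) (_ : Field F) (_ : Fintype F) (_ : CharP F 2) (q : ℕ),
    Fintype.card F = q ^ 2 ∧ q ≠ 2 ∧ Nonempty (X ≃* PSU 3 F q)) := by
  intro X _ _ _ hna hX
  obtain ⟨F, _, _, hc, q, h1, h2, ⟨e⟩⟩ := hX
  have hs : IsSimpleGroup (PSU 3 F q) := e.symm.isSimpleGroup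
  exact H776.CY.Row2.congr e (row2_psu F 3 q h1 le_rfl (fun h => h2 h.2) (nonab_of_equiv e hna))

end Cfsg.Agent.H802.R2
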