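import Cfsg.Agent.H680.GowLie
import Cfsg.Agent.H776.CY.All
import Cfsg.Agent.H601.R2.OddLie
import Cfsg.Agent.H637.CY.AltRow
import Cfsg.Agent.H907.R2.PslTwo
import Cfsg.Agent.H907.R2.Psp
import Cfsg.Agent.H226.R2.PslThree
import Cfsg.Agent.H802.R2.PsuAll

/-!
# S4829, `p = 2`: assembly of `Rows2` (helper802)

`Slots` : the families which are not plugged in yet; `rows2_of : Slots → Rows2`.
-/

set_option autoImplicit false

namespace Cfsg.Agent.H802.R2

open Cfsg Cfsg.Agent.H770.CY Cfsg.Agent.H776.CY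

/-- the open families of characteristic two, the sporadic groups and the Tits group -/
structure Slots : Prop where
  sp4 : RowFor2 (fun X _ => ∃ (F : Type) (_ : Field F) (_ : Fintype F) (_ : CharP F 2), 3 ≤ Fintype.card F ∧
    Nonempty (X ≃* PSp 2 F))
  oplus : RowFor2 (fun X _ => ∃ (F : Type) (_ : Field F) (_ : Fintype F) (_ : CharP F 2) (m : ℕ), 4 ≤ m ∧
    Nonempty (X ≃* POmega F (quadFormPlus m F)))
  ominus : RowFor2 (fun X _ => ∃ (F : Type) (_ : Field F) (_ : Fintype F) (_ : CharP F 2) (m : ℕ) (a b : F), 3 ≤ m ∧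
    (∀ z₁ z₂ : F, z₁ ^ 2 + a * z₁ * z₂ + b * z₂ ^ 2 = 0 → z₁ = 0 ∧ z₂ = 0) ∧
    Nonempty (X ≃* POmega F (quadFormMinus m F a b)))
  g2 : RowFor2 (fun X _ => ∃ (F : Type) (_ : Field F) (_ : Fintype F) (_ : CharP F 2), 3 ≤ Fintype.card F ∧
    Nonempty (X ≃* Lie.chevG2.group F))
  f4 : RowFor2 (fun X _ => ∃ (F : Type) (_ : Field F) (_ : Fintype F) (_ : CharP F 2),
    Nonempty (X ≃* Lie.chevF4.group F))
  e6 : RowFor2 (fun X _ => ∃ (F : Type) (_ : Field F) (_ : Fintype F) (_ : CharP F 2),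
    Nonempty (X ≃* Lie.chevE6.group F))
  e7 : RowFor2 (fun X _ => ∃ (F : Type) (_ : Field F) (_ : Fintype F) (_ : CharP F 2),
    Nonempty (X ≃* Lie.chevE7.group F))
  e8 : RowFor2 (fun X _ => ∃ (F : Type) (_ : Field F) (_ : Fintype F) (_ : CharP F 2),
    Nonempty (X ≃* Lie.chevE8.group F))
  te6 : RowFor2 (fun X _ => ∃ (F : Type) (_ : Field F) (_ : Fintype F) (_ : CharP F 2) (q : ℕ), IsPrimePow q ∧
    Fintype.card F = q ^ 2 ∧ Nonempty (X ≃* Lie.twistedE6 F q))
  td4 : RowFor2 (fun X _ => ∃ (F : Type) (_ : Field F) (_ : Fintype F) (_ : CharP F 2) (q : ℕ), IsPrimePow q ∧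
    Fintype.card F = q ^ 3 ∧ Nonempty (X ≃* Lie.twistedD4 F q))
  tf4 : RowFor2 (fun X _ => ∃ (F : Type) (_ : Field F) (_ : Fintype F) (_ : CharP F 2) (m : ℕ), 1 ≤ m ∧
    Fintype.card F = 2 ^ (2 * m + 1) ∧ Nonempty (X ≃* Lie.twistedF4 F (2 ^ m)))
  sz : RowFor2 (fun X _ => Lie.IsoSuzuki X)
  tits : RowFor2 (fun X _ => Lie.IsoTits X)
  spor : RowFor2 (fun X _ => IsSporadicGroup X)

variable (R : Slots)

include R in
/-- **characteristic two** -/
theorem lie_two : RowFor2 (fun X _ => IsLieTypeChar 2 X) := by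
  intro X _ _ _ hna hX
  rcases H680.GowLie.even_cases hX with h | h | h | h | h | h | h | h | h | h | h | h | h | h | h | h | h
  · exact H907.R2.row2_psl_two_family X hna h
  · obtain ⟨F, _, _, hc, ⟨e⟩⟩ := h
    exact Row2.congr e (H226.R2.row2_psl F le_rfl)
  · obtain ⟨F, _, _, hc, n, h1, ⟨e⟩⟩ := h
    exact Row2.congr e (H226.R2.row2_psl F (by omega))
  · obtain ⟨F, _, _, hc, m, h1, h2, ⟨e⟩⟩ := h
    rcases (by omega : m = 2 ∨ 3 ≤ m) with rfl | hm
    · exact R.sp4 X hna ⟨F, inferInstance, inferInstance, hc, h2 rfl, ⟨e⟩⟩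
    · exact Row2.congr e (H907.R2.row2_psp F m hm)
  · exact R.oplus X hna h
  · exact R.ominus X hna h
  · exact rowFor2_psu_four X hna h
  · exact rowFor2_psu_three X hna h
  · exact R.g2 X hna h
  · exact R.f4 X hna h
  · exact R.e6 X hna h
  · exact R.e7 X hna h
  · exact R.e8 X hna h
  · exact R.te6 X hna h
  · exact R.td4 X hna h
  · exact R.tf4 X hna h
  · exact R.sz X hna h

include R in
/-- **all groups of Lie type** -/
theorem lie_any {X : Type} [Group X] [Finite X] [IsSimpleGroup X] (hna : ¬ IsMulCommutative X)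
    (h : IsPSL X ∨ IsPSp X ∨ IsPSU X ∨ IsPOmegaOdd X ∨ IsPOmegaPlus X ∨ IsPOmegaMinus X ∨ IsExceptionalLieType X) :
    Row2 X := by
  rcases H680.GowLie.exists_char h with ⟨p, hp, h1⟩ | h1
  · by_cases hp2 : p = 2
    · subst hp2
      exact lie_two R X hna h1
    · exact H601.R2.row2_odd hp hp2 h1
  · exact R.tits X hna h1

include R in
/-- **all nonabelian known simple groups**, any universe -/
theorem row2_known {G : Type*} [Group G] [Finite G] [IsSimpleGroup G] (hna : ¬ IsMulCommutative G)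
    (hk : IsKnownSimple' G) : Row2 G := by
  have e : G ≃* Shrink.{0} G := (Shrink.mulEquiv.{0}).symm
  have hf : Finite (Shrink.{0} G) := Finite.of_equiv _ e.toEquiv
  have hs : IsSimpleGroup (Shrink.{0} G) := e.symm.isSimpleGroup
  have h1 := nonab_of_equiv e hna
  refine Row2.congr e ?_
  rcases OddHalf.Known.isKnownSimple'_congr e hna hk with h | h | h | h | h | h | h | h | h | h
  · exfalso
    have h3 : (Nat.card (Shrink.{0} G)).Prime := h
    have : Fact (Nat.card (Shrink.{0} G)).Prime := ⟨h3⟩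
    have hc : IsCyclic (Shrink.{0} G) := isCyclic_of_prime_card rfl
    exact h1 ⟨⟨fun a b => by
      let _ : CommGroup (Shrink.{0} G) := IsCyclic.commGroup
      exact mul_comm a b⟩⟩
  · exact H637.CY.row2_alternating _ h1 h
  · exact lie_any R h1 (Or.inl h)
  · exact lie_any R h1 (Or.inr (Or.inl h))
  · exact lie_any R h1 (Or.inr (Or.inr (Or.inl h)))
  · exact lie_any R h1 (Or.inr (Or.inr (Or.inr (Or.inl h))))
  · exact lie_any R h1 (Or.inr (Or.inr (Or.inr (Or.inr (Or.inl h)))))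
  · exact lie_any R h1 (Or.inr (Or.inr (Or.inr (Or.inr (Or.inr (Or.inl h))))))
  · exact lie_any R h1 (Or.inr (Or.inr (Or.inr (Or.inr (Or.inr (Or.inr h))))))
  · exact R.spor _ h1 h

end Cfsg.Agent.H802.R2
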