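import Cfsg.Agent.H802.R2.FTwoPre

/-!
# S4829, `p = 2`: the row `F₄(2)` (helper802)

The induced function `ψ` of `η(π₀) η(π₃)` has norm at most four and is fixed by all automorphisms (helper310); it is equal
to the induced function of `η(π₀) η(π₂)`, which has a rational constituent of odd degree (helper706).
-/

set_option autoImplicit false
set_option linter.unusedSectionVars false

open scoped ComplexConjugate MatrixGroups
open Cfsg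

namespace Cfsg.Agent.H802.R2.FTwo

open Cfsg.Agent.Characters Cfsg.Agent.H497.Gow Cfsg.Agent.H310.R2 Cfsg.Agent.H636.Gow.CuspSL
open Cfsg.Agent.H770.CY Cfsg.Agent.H554.RG Cfsg.Agent.H53.HC
open Cfsg.Lie Cfsg.Agent.Nodes.RGDChev Cfsg.Agent.Nodes.RGDLib
open CoxeterSystem Cfsg.Agent.ChevalleyStructure.CoxeterGeom Cfsg.Agent.ChevalleyStructure.CoxeterGeomTypes
open Cfsg.Agent.Tits.Roots Cfsg.Agent.Tits.Core Cfsg.Agent.Nodes.Reps Cfsg.Agent.Nodes.BNOf Cfsg.Agent.Nodes.Bruhat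
  Cfsg.Agent.Nodes.LeviDec Cfsg.Agent.H706.Gow Cfsg.Agent.Nodes.StabComb
open Cfsg.Agent.H641.Gow (CuspL HC projL projL_L projL_V)
open Cfsg.Agent.H627.Gow Cfsg.Agent.H636.Gow Cfsg.Agent.H650.GowChev Cfsg.Agent.BpExc.TorChev
  Cfsg.Agent.KFacts.RgdChevCoord Cfsg.Agent.KFacts.RgdField

universe u

theorem sdiff_a : ({0} ∪ {3} : Set (Fin 4)) \ {0} = {3} := by
  ext x
  simp only [Set.mem_sdiff, Set.mem_union, Set.mem_singleton_iff]
  revert x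
  decide

theorem sdiff_b : ({0} ∪ {3} : Set (Fin 4)) \ {3} = {0} := by
  ext x
  simp only [Set.mem_sdiff, Set.mem_union, Set.mem_singleton_iff]
  revert x
  decide

theorem sdiff_c : (({0} ∪ {2}) ∪ ∅ : Set (Fin 4)) \ {0} = {2} := by
  ext x
  simp only [Set.mem_sdiff, Set.mem_union, Set.mem_singleton_iff, Set.mem_empty_iff_false, or_false]
  revert x
  decide

theorem sdiff_d : (({0} ∪ {2}) ∪ ∅ : Set (Fin 4)) \ {2} = {0} := by
  ext x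
  simp only [Set.mem_sdiff, Set.mem_union, Set.mem_singleton_iff, Set.mem_empty_iff_false, or_false]
  revert x
  decide


section gen

variable {I W : Type*} {Y : Type u} [Fintype I] [DecidableEq I] [Group W] [Group Y] {M : CoxeterMatrix I}
  {cs : CoxeterSystem M W} {A : I → I → ℤ} {h : IsCartan M A} {T : Subgroup Y} {n : I → Y}
  {X : (I → ℤ) → Subgroup Y} {F : Type*} [Field F] {k₁ k₂ : I} {φ₁ φ₂ : SL(2, F) →* Y}

/-- the cuspidal alternative holds, and `HC` is the induced function -/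
theorem hc_eq_ind [Finite W] [Finite Y] [Finite F] [CharP F 2] [Fintype SL(2, F)] (hF : Nat.card F = 2)
    (R : RGD cs h 2 T n X) (hG : GG cs h T X = ⊤) (hT : T = ⊥) (ho : Orth A {k₁} {k₂}) {J : Set I}
    (hJ : {k₁} ∪ {k₂} = J) (hJ1 : J \ {k₁} = {k₂}) (hJ2 : J \ {k₂} = {k₁})
    {π₁ π₂ : ↥(PJ cs h T X J) →* SL(2, F)} (P₁ : Proj cs h T X J k₁ φ₁ π₁) (P₂ : Proj cs h T X J k₂ φ₂ π₂)
    {η : SL(2, F) → ℂ} (E : EtaP F η) [Fintype Y] :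
    IsIrrCharacter _ (fun l : ↥(LJ cs h T X J) => η (π₁ ⟨l, LJ_le_PJ l.2⟩) * η (π₂ ⟨l, LJ_le_PJ l.2⟩)) ∧
    CuspL cs h T X J (fun l : ↥(LJ cs h T X J) => η (π₁ ⟨l, LJ_le_PJ l.2⟩) * η (π₂ ⟨l, LJ_le_PJ l.2⟩)) ∧
    HC R J (fun l : ↥(LJ cs h T X J) => η (π₁ ⟨l, LJ_le_PJ l.2⟩) * η (π₂ ⟨l, LJ_le_PJ l.2⟩)) =
      indFun (PJ cs h T X J) (fun x => η (π₁ x) * η (π₂ x)) := by
  classical
  have H := dat_two R hG ho hJ P₁ P₂ E
  rcases H.cas with ⟨h1, h2, h3⟩ | ⟨lam, hl, hlam⟩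
  · refine ⟨h1, h2, ?_⟩
    unfold HC
    congr 1
    funext ⟨x, hx⟩
    obtain ⟨l, hl, v, hv, rfl⟩ := (mem_PJ R).1 hx
    have e1 : (⟨l * v, hx⟩ : PJ cs h T X J) = ⟨l, LJ_le_PJ hl⟩ * ⟨v, VJ_le_PJ hv⟩ := rfl
    rw [Function.comp_apply, e1, map_mul, projL_L R hl, projL_V R hv, mul_one]
    exact (h3 l hl v hv).symm
  · exfalso
    obtain ⟨f, hf, hf1, hf2⟩ := eta_hom hF E
    have : Fintype ↥(RGD.B cs h T X) := Fintype.ofFinite _
    let f' : ↥(RGD.B cs h T X) →* ℂˣ :=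
      (f.comp (π₁.comp (Subgroup.inclusion B_le_PJ))) * (f.comp (π₂.comp (Subgroup.inclusion B_le_PJ)))
    have hl1 : lam = 1 := by
      refine MonoidHom.ext fun b => ?_
      obtain ⟨t, ht, u, hu, e⟩ := R.mem_B.1 b.2
      rw [hT, Subgroup.mem_bot] at ht
      have e1 : b = ⟨u, RGD.U_le_B hu⟩ := Subtype.ext (by rw [e, ht, one_mul])
      rw [e1, hl u hu]
      rfl
    apply hlam
    rw [hl1]
    have e2 : (fun b : ↥(RGD.B cs h T X) => η (π₁ ⟨b, B_le_PJ b.2⟩) * η (π₂ ⟨b, B_le_PJ b.2⟩)) =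
        fun b => ((f' b : ℂˣ) : ℂ) := by
      funext b
      rw [hf]
      rfl
    change classInner (fun b : ↥(RGD.B cs h T X) => η (π₁ ⟨b, B_le_PJ b.2⟩) * η (π₂ ⟨b, B_le_PJ b.2⟩)) _ = 0
    rw [e2]
    refine Core.classInner_irr_ne (Linear.isIrrCharacter_hom f') (Linear.isIrrCharacter_hom 1) ?_
    intro h0
    -- the value at `x_{k₁}(1)`
    have hx : φ₁ (sx 1) ∈ X (sr k₁) := (P₁.node.up _).2 ⟨1, rfl⟩
    have hB : φ₁ (sx 1) ∈ RGD.B cs h T X := RGD.X_le_B (isRoot_sr cs h k₁) (sr_nonneg k₁) hx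
    obtain ⟨v1, v2⟩ := phi_val hJ1 hJ2 P₁ P₂ (sx 1) 1 (B_le_PJ hB) (by rw [map_one, mul_one])
    have h4 := congrFun h0 ⟨_, hB⟩
    have h5 : (f' ⟨_, hB⟩ : ℂˣ) = -1 := by
      change f (π₁ ⟨φ₁ (sx 1), B_le_PJ hB⟩) * f (π₂ ⟨φ₁ (sx 1), B_le_PJ hB⟩) = -1
      rw [v1, v2, hf1, map_one, mul_one]
    have h6 : (((-1 : ℂˣ)) : ℂ) = ((1 : ℂˣ) : ℂ) := by
      rw [← h5]
      exact h4
    have h7 : (-1 : ℂ) = 1 := by simpa using h6
    norm_num at h7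

end gen

section f4

variable (K : Type u) [Field K] [Finite K] [CharP K 2]

/-- the action on the rank one groups -/
theorem conj_eq [Fact (Nat.Prime 2)] (hK : Nat.card K = 2) {k k' : Fin 4} {φ φ' : SL(2, K) →* ↥(chevF4.group K)}
    (c : ∀ u, φ (sx u) = xc isType4 (sr k) u ∧ φ (sy u) = xc isType4 (-sr k) u)
    (c' : ∀ u, φ' (sx u) = xc isType4 (sr k') u ∧ φ' (sy u) = xc isType4 (-sr k') u)
    {w : CoxeterMatrix.F₄.Group} {g : ↥(chevF4.group K)}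
    (hg : Rp CoxeterMatrix.F₄.toCoxeterSystem (rgd (K := K) isType4 CoxeterMatrix.F₄.toCoxeterSystem 2).nsys w g)
    (hw : rep CoxeterMatrix.F₄.toCoxeterSystem isType4.isCartan w (sr k) = sr k') (a : SL(2, K)) :
    g * φ a * g⁻¹ = φ' a := by
  have C := coords (K := K) isType4 CoxeterMatrix.F₄.toCoxeterSystem 2
  obtain ⟨z, hz, hza⟩ := act_rp C _ hg (isRoot_sr CoxeterMatrix.F₄.toCoxeterSystem isType4.isCartan k)
  obtain ⟨z', hz', hza'⟩ := act_rp C _ hg (isRoot_sr CoxeterMatrix.F₄.toCoxeterSystem isType4.isCartan k).neg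
  have hz1 := eq_one_of_two hK hz
  have hz1' := eq_one_of_two hK hz'
  rw [map_neg, hw] at hza'
  rw [hw] at hza
  have h1 : (MulAut.conj g).toMonoidHom.comp φ = φ' := by
    refine hom_ext_two hK ?_ ?_
    · change g * φ (sx 1) * g⁻¹ = φ' (sx 1)
      rw [(c 1).1, (c' 1).1, hza, hz1, one_mul]
    · change g * φ (sy 1) * g⁻¹ = φ' (sy 1)
      rw [(c 1).2, (c' 1).2, hza', hz1', one_mul]
  exact DFunLike.congr_fun h1 a

/-- the characters of the Levi subgroups correspond -/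
theorem ind_eq_aux [Fact (Nat.Prime 2)] (hK : Nat.card K = 2)
    {φ0 φ2 φ3 : SL(2, K) →* ↥(chevF4.group K)}
    (c0 : ∀ u, φ0 (sx u) = xc isType4 (sr 0) u ∧ φ0 (sy u) = xc isType4 (-sr 0) u)
    (c2 : ∀ u, φ2 (sx u) = xc isType4 (sr 2) u ∧ φ2 (sy u) = xc isType4 (-sr 2) u)
    (c3 : ∀ u, φ3 (sx u) = xc isType4 (sr 3) u ∧ φ3 (sy u) = xc isType4 (-sr 3) u)
    {π1 π2 : ↥(PJ CoxeterMatrix.F₄.toCoxeterSystem isType4.isCartan (TT chevF4 K) (XX chevF4 4 K) ({0} ∪ {3})) →* SL(2, K)}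
    {ρ1 ρ2 : ↥(PJ CoxeterMatrix.F₄.toCoxeterSystem isType4.isCartan (TT chevF4 K) (XX chevF4 4 K) (({0} ∪ {2}) ∪ ∅)) →* SL(2, K)}
    (P1 : Proj CoxeterMatrix.F₄.toCoxeterSystem isType4.isCartan (TT chevF4 K) (XX chevF4 4 K) ({0} ∪ {3}) 0 φ0 π1)
    (P2 : Proj CoxeterMatrix.F₄.toCoxeterSystem isType4.isCartan (TT chevF4 K) (XX chevF4 4 K) ({0} ∪ {3}) 3 φ3 π2)
    (Q1 : Proj CoxeterMatrix.F₄.toCoxeterSystem isType4.isCartan (TT chevF4 K) (XX chevF4 4 K) (({0} ∪ {2}) ∪ ∅) 0 φ0 ρ1)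
    (Q2 : Proj CoxeterMatrix.F₄.toCoxeterSystem isType4.isCartan (TT chevF4 K) (XX chevF4 4 K) (({0} ∪ {2}) ∪ ∅) 2 φ2 ρ2)
    (η : SL(2, K) → ℂ) {w : CoxeterMatrix.F₄.Group} {g : ↥(chevF4.group K)}
    (hg : Rp CoxeterMatrix.F₄.toCoxeterSystem (rgd (K := K) isType4 CoxeterMatrix.F₄.toCoxeterSystem 2).nsys w g)
    (w0 : rep CoxeterMatrix.F₄.toCoxeterSystem isType4.isCartan w (sr 0) = sr 0)
    (w3 : rep CoxeterMatrix.F₄.toCoxeterSystem isType4.isCartan w (sr 3) = sr 2) {l : ↥(chevF4.group K)}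
    (hl : l ∈ LJ CoxeterMatrix.F₄.toCoxeterSystem isType4.isCartan (TT chevF4 K) (XX chevF4 4 K) (({0} ∪ {2}) ∪ ∅))
    (hl' : g⁻¹ * l * g ∈ LJ CoxeterMatrix.F₄.toCoxeterSystem isType4.isCartan (TT chevF4 K) (XX chevF4 4 K) ({0} ∪ {3})) :
    η (ρ1 ⟨l, LJ_le_PJ hl⟩) * η (ρ2 ⟨l, LJ_le_PJ hl⟩) =
      η (π1 ⟨g⁻¹ * l * g, LJ_le_PJ hl'⟩) * η (π2 ⟨g⁻¹ * l * g, LJ_le_PJ hl'⟩) := by
  let cs : CoxeterSystem CoxeterMatrix.F₄ CoxeterMatrix.F₄.Group := CoxeterMatrix.F₄.toCoxeterSystem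
  have := finite_W isType4 cs
  have R := rgd (K := K) isType4 cs 2
  have hT := TT_eq_bot K hK
  have N := TwoN.mk' R Q1.node Q2.node orth_f4
  have hl2 : l ∈ LJ cs isType4.isCartan (TT chevF4 K) (XX chevF4 4 K) ({0} ∪ {2}) := by
    rwa [Set.union_empty] at hl
  obtain ⟨a, b, rfl⟩ := mem_LJ_two R hT N hl2
  have g0 := conj_eq K hK c0 c0 hg w0 a
  have g3 := conj_eq K hK c3 c2 hg w3 b
  have e5 : φ0 a * φ3 b = g⁻¹ * (φ0 a * φ2 b) * g := by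
    rw [← g3]
    conv_rhs => rw [← g0]
    group
  obtain ⟨v1, v2⟩ := phi_val sdiff_c sdiff_d Q1 Q2 a b (LJ_le_PJ hl) rfl
  obtain ⟨v3, v4⟩ := phi_val sdiff_a sdiff_b P1 P2 a b (LJ_le_PJ hl') e5
  rw [v1, v2, v3, v4]

/-- **`Ind (η(π₀) η(π₃)) = Ind (η(π₀) η(π₂))`** -/
theorem ind_eq (hK : Nat.card K = 2) [Fintype ↥(chevF4.group K)] [Fintype SL(2, K)]
    {φ0 φ2 φ3 : SL(2, K) →* ↥(chevF4.group K)}
    (c0 : ∀ u, φ0 (sx u) = xc isType4 (sr 0) u ∧ φ0 (sy u) = xc isType4 (-sr 0) u)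
    (c2 : ∀ u, φ2 (sx u) = xc isType4 (sr 2) u ∧ φ2 (sy u) = xc isType4 (-sr 2) u)
    (c3 : ∀ u, φ3 (sx u) = xc isType4 (sr 3) u ∧ φ3 (sy u) = xc isType4 (-sr 3) u)
    {π1 π2 : ↥(PJ CoxeterMatrix.F₄.toCoxeterSystem isType4.isCartan (TT chevF4 K) (XX chevF4 4 K) ({0} ∪ {3})) →* SL(2, K)}
    {ρ1 ρ2 : ↥(PJ CoxeterMatrix.F₄.toCoxeterSystem isType4.isCartan (TT chevF4 K) (XX chevF4 4 K) (({0} ∪ {2}) ∪ ∅)) →* SL(2, K)}
    (P1 : Proj CoxeterMatrix.F₄.toCoxeterSystem isType4.isCartan (TT chevF4 K) (XX chevF4 4 K) ({0} ∪ {3}) 0 φ0 π1)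
    (P2 : Proj CoxeterMatrix.F₄.toCoxeterSystem isType4.isCartan (TT chevF4 K) (XX chevF4 4 K) ({0} ∪ {3}) 3 φ3 π2)
    (Q1 : Proj CoxeterMatrix.F₄.toCoxeterSystem isType4.isCartan (TT chevF4 K) (XX chevF4 4 K) (({0} ∪ {2}) ∪ ∅) 0 φ0 ρ1)
    (Q2 : Proj CoxeterMatrix.F₄.toCoxeterSystem isType4.isCartan (TT chevF4 K) (XX chevF4 4 K) (({0} ∪ {2}) ∪ ∅) 2 φ2 ρ2)
    {η : SL(2, K) → ℂ} (E : EtaP K η) :
    indFun (PJ CoxeterMatrix.F₄.toCoxeterSystem isType4.isCartan (TT chevF4 K) (XX chevF4 4 K) ({0} ∪ {3}))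
        (fun x => η (π1 x) * η (π2 x)) =
      indFun (PJ CoxeterMatrix.F₄.toCoxeterSystem isType4.isCartan (TT chevF4 K) (XX chevF4 4 K) (({0} ∪ {2}) ∪ ∅))
        (fun x => η (ρ1 x) * η (ρ2 x)) := by
  classical
  have hp2 : Fact (Nat.Prime 2) := ⟨Nat.prime_two⟩
  let cs : CoxeterSystem CoxeterMatrix.F₄ CoxeterMatrix.F₄.Group := CoxeterMatrix.F₄.toCoxeterSystem
  have := finite_W isType4 cs
  have R := rgd (K := K) isType4 cs 2
  have hG := GG_top isType4 cs (K := K)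
  have hT := TT_eq_bot K hK
  obtain ⟨i3, k3, e3⟩ := hc_eq_ind hK R hG hT orth_03 rfl sdiff_a sdiff_b P1 P2 E
  obtain ⟨i2, k2, e2⟩ := hc_eq_ind hK R hG hT orth_f4 (Set.union_empty _).symm sdiff_c sdiff_d Q1 Q2 E
  rw [← e3, ← e2]
  refine (H743.GG.HC_eq_of_inner R hG i2 i3 k2 k3 ?_).symm
  rw [H743.GG.classInner_HC₂ R hG _ _ i2 i3 k2 k3, Nat.cast_ne_zero]
  have w3 : rep cs isType4.isCartan (cs.wordProd [3, 2]) (sr 3) = sr 2 := by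
    rw [rep_word_f4]; decide +kernel
  have w0 : rep cs isType4.isCartan (cs.wordProd [3, 2]) (sr 0) = sr 0 := by
    rw [rep_word_f4]; decide +kernel
  have hP : H743.GG.Perm₂ cs isType4.isCartan (({0} ∪ {2}) ∪ ∅) ({0} ∪ {3}) (cs.wordProd [3, 2]) := by
    constructor
    · rintro i ((hi | hi) | hi)
      · rw [Set.mem_singleton_iff] at hi
        subst hi
        exact ⟨0, Or.inl rfl, by conv_lhs => rw [← w0, rep_inv_apply]⟩
      · rw [Set.mem_singleton_iff] at hi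
        subst hi
        exact ⟨3, Or.inr rfl, by rw [← w3, rep_inv_apply]⟩
      · exact absurd hi (Set.notMem_empty i)
    · rintro k (hk | hk)
      · rw [Set.mem_singleton_iff] at hk
        subst hk
        exact ⟨0, Or.inl (Or.inl rfl), w0⟩
      · rw [Set.mem_singleton_iff] at hk
        subst hk
        exact ⟨2, Or.inl (Or.inr rfl), w3⟩
  obtain ⟨g, hg⟩ := exists_rp cs R.nsys (cs.wordProd [3, 2])
  have N := TwoN.mk' R Q1.node Q2.node orth_f4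
  have hfinW : Finite CoxeterMatrix.F₄.Group := this
  have hmem : cs.wordProd [3, 2] ∈ H743.GG.SS₂ R (({0} ∪ {2}) ∪ ∅) ({0} ∪ {3})
      (fun l : ↥(LJ cs isType4.isCartan (TT chevF4 K) (XX chevF4 4 K) (({0} ∪ {2}) ∪ ∅)) =>
        η (ρ1 ⟨l, LJ_le_PJ l.2⟩) * η (ρ2 ⟨l, LJ_le_PJ l.2⟩))
      (fun l : ↥(LJ cs isType4.isCartan (TT chevF4 K) (XX chevF4 4 K) ({0} ∪ {3})) =>
        η (π1 ⟨l, LJ_le_PJ l.2⟩) * η (π2 ⟨l, LJ_le_PJ l.2⟩)) := by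
    refine ⟨hP, g, hg, ?_⟩
    intro l hl hl'
    exact ind_eq_aux K hK c0 c2 c3 P1 P2 Q1 Q2 η hg w0 w3 hl hl'
  exact (Set.ncard_pos (Set.toFinite _)).2 ⟨_, hmem⟩ |>.ne'

end f4

section main

variable (K : Type u) [Field K] [Finite K] [CharP K 2]

/-- **`F₄(2)`.** -/
theorem row2_F4_two (hK : Nat.card K = 2) : Row2 ↥(chevF4.group K) := by
  classical
  have hp2 : Fact (Nat.Prime 2) := ⟨Nat.prime_two⟩
  let cs : CoxeterSystem CoxeterMatrix.F₄ CoxeterMatrix.F₄.Group := CoxeterMatrix.F₄.toCoxeterSystem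
  have := finite_W isType4 cs
  have R := rgd (K := K) isType4 cs 2
  have hG := GG_top isType4 cs (K := K)
  have : Fintype ↥(chevF4.group K) := Fintype.ofFinite _
  have : Fintype SL(2, K) := Fintype.ofFinite _
  have hT := TT_eq_bot K hK
  obtain ⟨φ₀, N₀, x₀, y₀⟩ := exists_node_coord (K := K) isType4 cs 0
  obtain ⟨φ₂, N₂, x₂, y₂⟩ := exists_node_coord (K := K) isType4 cs 2
  obtain ⟨φ₃, N₃, x₃, y₃⟩ := exists_node_coord (K := K) isType4 cs 3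
  have a₁ : NodeAct cs isType4.isCartan R.nsys 0 φ₀ := nodeAct_of N₀.inj (coords (K := K) isType4 cs 2) _ x₀ y₀
  have a₂ : NodeAct cs isType4.isCartan R.nsys 2 φ₂ := nodeAct_of N₂.inj (coords (K := K) isType4 cs 2) _ x₂ y₂
  have N := TwoN.mk' R N₀ N₂ orth_f4
  obtain ⟨χ, hχ⟩ := exists_cuspTwo K (by rw [hK]; decide)
  have ho : Orth (cartanOf chevF4 4) ({0} ∪ {2}) ∅ := fun i _ j hj => absurd hj (Set.notMem_empty j)
  obtain ⟨c, hc⟩ := exists_ret R ho N.cen (N.inner (torus_inner isType4 cs 0) (torus_inner isType4 cs 2))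
  obtain ⟨d, hd, hd1⟩ := N.theta_one hχ
  obtain ⟨gr, hgr⟩ := exists_rp cs R.nsys (cs.wordProd wordR)
  obtain ⟨g₁, hg₁⟩ := exists_rp cs R.nsys (cs.wordProd wordW)
  have hKE : (({0} ∪ {2}) ∪ ∅ : Set (Fin 4)) ⊆ {0, 1, 2} := by
    intro i hi
    simp only [Set.union_empty, Set.mem_union, Set.mem_singleton_iff, Set.mem_insert_iff] at hi ⊢
    tauto
  have hKK : (({0} ∪ {2}) ∪ ∅ : Set (Fin 4)) = {0, 2} := by
    rw [Set.union_empty]; rfl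
  have fixR : ∀ i ∈ ({0} ∪ {2} : Set (Fin 4)), rep cs isType4.isCartan (cs.wordProd wordR) (sr i) = sr i := by
    rintro i (hi | hi)
    · rw [Set.mem_singleton_iff.1 hi]; exact wordR_zero cs
    · rw [Set.mem_singleton_iff.1 hi]; exact wordR_two cs
  have w0 := wordW_fix cs 0 (by simp)
  have w2 := wordW_fix cs 2 (by simp)
  have hS : (Sset R ({0} ∪ {2}) ∅ (N.theta χ) (N.theta χ)).ncard ≤ 4 := by
    refine le_trans (Set.ncard_le_ncard ?_ (Set.toFinite _)) (stab4_ncard cs)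
    rintro w ⟨-, hw, -⟩
    exact fix_of_perm cs hw
  have hE : ∀ w ∈ WJ cs ({0, 1, 2} : Set (Fin 4)), Min cs isType4.isCartan (({0} ∪ {2}) ∪ ∅) w →
      Cfsg.Agent.H53.HC.Perm cs isType4.isCartan ({0} ∪ {2}) w → w = 1 ∨ w = cs.wordProd wordR := by
    intro w hw _ hw'
    exact mem_WE cs hw (fix_of_perm cs hw')
  obtain ⟨n, hn, hn4, ρ, r1, r2, r3⟩ := exists_rho_of_ret_four (E := {0, 1, 2}) R hG ho hc N.cen ⟨0, Or.inl rfl⟩
    (N.theta_irr hχ.irr) (N.theta_van hχ) (N.theta_rat hχ) hd hd1 hS hKE (wordR_mem cs) (hKK ▸ wordR_not_mem cs)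
    (perm_of_fix cs fixR) hgr (fun m hm => N.theta_inv hχ a₁ a₂ hgr (wordR_zero cs) (wordR_two cs) m hm _) hE
    (wordW_not_mem cs) (perm_of_fix cs (wordW_fix cs)) (perm_of_fix cs fun i hi => wordW_fix cs i (hKE hi))
    (perm_of_fix cs fun i hi => wordW_fix cs i (hKE (Or.inl hi))) hg₁
    (fun m hm => N.theta_inv hχ a₁ a₂ hg₁ w0 w2 m hm _)
  obtain ⟨π₀, P₀⟩ := exists_proj (J := {0} ∪ {3}) R N₀ (Or.inl rfl) (by rw [sdiff_a]; exact orth_03)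
    (torus_inner isType4 cs 0)
  obtain ⟨π₃, P₃⟩ := exists_proj (J := {0} ∪ {3}) R N₃ (Or.inr rfl) (by rw [sdiff_b]; exact orth_03.symm)
    (torus_inner isType4 cs 3)
  obtain ⟨ρ₀, Q₀⟩ := exists_proj (J := ({0} ∪ {2}) ∪ ∅) R N₀ (Or.inl (Or.inl rfl)) (by rw [sdiff_c]; exact orth_f4)
    (torus_inner isType4 cs 0)
  obtain ⟨ρ₂, Q₂⟩ := exists_proj (J := ({0} ∪ {2}) ∪ ∅) R N₂ (Or.inl (Or.inr rfl))
    (by rw [sdiff_d]; exact orth_f4.symm) (torus_inner isType4 cs 2)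
  obtain ⟨η, E⟩ := exists_etaP K
  obtain rfl : η = χ := eta_eq hK E hχ
  have e1 := theta_eq R hT N hc sdiff_c sdiff_d Q₀ Q₂ η
  have e2 := ind_eq K hK (fun u => ⟨x₀ u, y₀ u⟩) (fun u => ⟨x₂ u, y₂ u⟩) (fun u => ⟨x₃ u, y₃ u⟩) P₀ P₃ Q₀ Q₂ E
  rw [e1, ← e2] at hn r3
  have H := dat_two R hG orth_03 rfl P₀ P₃ E
  have hψ : IsCharacter _ (indFun (PJ cs isType4.isCartan (TT chevF4 K) (XX chevF4 4 K) ({0} ∪ {3}))
      (fun x => η (π₀ x) * η (π₃ x))) := Brauer.isCharacter_indFun _ (Core.isIrr_isCharacter H.irr)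
  refine row2_of_norm_four hψ (fun g => ?_) ?_ ?_ hn hn4 r1 r2 r3 (fun b x => psi_inv K P₀ P₃ E b x)
  · exact (GaloisBasic.exists_rat_iff hψ g).2 fun k hk => H151.OC.indFun_pow hk (fun b => H.pow k hk b) g
  · have : Fintype ↥(PJ cs isType4.isCartan (TT chevF4 K) (XX chevF4 4 K) ({0} ∪ {3})) := Fintype.ofFinite _
    rw [Cfsg.Agent.OddOrderCharacters.Clifford.classInner_indFun _ _ _ (Core.isIrr_isClassFunction Core.isIrr_one)]
    exact Core.classInner_irr_ne H.irr Core.isIrr_one H.ne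
  · obtain ⟨d', hd', hd1'⟩ := H.odd
    refine ⟨(((PJ cs isType4.isCartan (TT chevF4 K) (XX chevF4 4 K) ({0} ∪ {3})).index * d' : ℕ) : ℤ), ?_, ?_⟩
    · rw [Int.odd_coe_nat]
      exact (odd_index R hG _).mul hd'
    · rw [Cfsg.Agent.H678.Constit.indFun_one, hd1']
      push_cast
      ring

end main

end Cfsg.Agent.H802.R2.FTwo
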