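import Cfsg.Agent.H706.Gow.FourAbs
import Cfsg.Agent.H226.R2.Base

/-!
# S4829, `p = 2`, `F₄(2)`: characters of norm four (helper802)

* `row2_of_norm_four` : `ψ` a rational character of norm at most four and odd degree, fixed by all automorphisms, with a
  rational constituent of odd degree: `Row2 S`;
* `exists_rho_of_four` : `H706.Gow.ratOdd_of_four`, with the constituent.
-/

set_option autoImplicit false
set_option linter.unusedSectionVars false

open scoped ComplexConjugate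
open Cfsg

namespace Cfsg.Agent.H802.R2.FTwo

open Cfsg.Agent.OddOrderCharacters.Clifford Cfsg.Agent.Characters Cfsg.Agent.H53.HC
  Cfsg.Agent.H627.Gow Cfsg.Agent.H636.Gow Cfsg.Agent.H706.Gow Cfsg.Agent.H770.CY Cfsg.Agent.H226.R2
  Cfsg.Agent.H707.OddLift Cfsg.Agent.H707.Norm

universe u

attribute [local instance] Cfsg.Agent.H707.Orbits.irrAction

section

variable {S : Type u} [Group S] [Fintype S]

/-- the odd constituent of a rational generalized character of norm at most two -/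
theorem exists_rho {ψ : S → ℂ} (hψ : IsGeneralizedCharacter S ψ) (hrat : ∀ g : S, ∃ q : ℚ, ψ g = q)
    (h1 : classInner ψ 1 = 0) (hodd : ∃ k : ℤ, Odd k ∧ ψ 1 = k) {n : ℕ} (hn : classInner ψ ψ = n) (hn2 : n ≤ 2) :
    ∃ ρ : IrrCharacter S, OddDeg (ρ : S → ℂ) ∧ (∀ g, ∃ q : ℚ, (ρ : S → ℂ) g = q) ∧ classInner ψ (ρ : S → ℂ) ≠ 0 := by
  classical
  obtain ⟨T, hT, hT1, hT2, hT3, hT4, hT5⟩ := exists_supp hψ h1 hodd
  have h2 := hT3 n hn
  have h3 : T.card = 1 := by
    obtain ⟨k, hk⟩ := hT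
    omega
  obtain ⟨χ, rfl⟩ := Finset.card_eq_one.1 h3
  have hm := Finset.mem_singleton_self χ
  obtain ⟨h4, k, hk, hk1⟩ := (hT1 χ).1 hm
  refine ⟨χ, h4, fun g => ?_, ?_⟩
  · apply GaloisBasic.exists_rat_of_forall_ringEquiv
    · exact (GaloisBasic.isIntegral_apply (Core.isIrr_isCharacter χ.2) g).tower_top
    · intro σ
      exact congrFun (congrArg Subtype.val (Finset.mem_singleton.1 (hT5 hrat σ χ hm))) g
  · rw [hk1]
    intro h0
    have : k = 0 := by exact_mod_cast h0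
    rw [this] at hk
    exact absurd hk (by decide)

/-- **norm four** -/
theorem row2_of_norm_four {ψ : S → ℂ} (hψ : IsCharacter S ψ) (hrat : ∀ g : S, ∃ q : ℚ, ψ g = q)
    (h1 : classInner ψ 1 = 0) (hodd : ∃ k : ℤ, Odd k ∧ ψ 1 = k) {n : ℕ} (hn : classInner ψ ψ = n) (hn4 : n ≤ 4)
    {ρ : IrrCharacter S} (hρ : OddDeg (ρ : S → ℂ)) (hρr : ∀ g, ∃ q : ℚ, (ρ : S → ℂ) g = q)
    (hρψ : classInner ψ (ρ : S → ℂ) ≠ 0) (hst : ∀ b : MulAut S, b ∈ stab ψ) : Row2 S := by
  classical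
  intro B hB
  have hg : IsGeneralizedCharacter S ψ := ⟨_, 0, hψ, Core.isCharacter_zero, by rw [sub_zero]⟩
  obtain ⟨T, hT, hT1, hT2, hT3, hT4, hT5⟩ := exists_supp hg h1 hodd
  have hcard := hT3 n hn
  let _ := twAct (S := S)
  -- the fixed points of `B` in `T`
  have hfin := Core.finite_irr (G := S)
  let _ : MulAction B T :=
    { smul := fun b χ => ⟨(b : MulAut S) • χ.1, hT4 b.1 (hst b.1) χ.1 χ.2⟩
      one_smul := fun χ => Subtype.ext (one_smul _ _)
      mul_smul := fun a b χ => Subtype.ext (mul_smul _ _ _) }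
  have : Fact (Nat.Prime 2) := ⟨Nat.prime_two⟩
  have hmod := hB.card_modEq_card_fixedPoints T
  have hTc : Nat.card T = T.card := by rw [Nat.card_eq_fintype_card, Fintype.card_coe]
  rw [hTc] at hmod
  have hfix : ∀ χ : T, χ ∈ MulAction.fixedPoints B T → ∀ b ∈ B, ∀ x : S, (χ.1 : S → ℂ) (b x) = (χ.1 : S → ℂ) x := by
    intro χ hχ b hb x
    have h2 := hχ ⟨b, hb⟩
    have h3 : tw b χ.1 = χ.1 := congrArg Subtype.val h2
    exact mem_stab_iff_tw.1 h3 x
  have hout : ∀ χ : T, (∀ g, ∃ q : ℚ, (χ.1 : S → ℂ) g = q) → χ ∈ MulAction.fixedPoints B T → ∃ θ : IrrCharacter S,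
      (θ : S → ℂ) ≠ (fun _ => 1) ∧ Odd (charDegree (θ : S → ℂ)) ∧ Cyc 2 (θ : S → ℂ) ∧
        ∀ b ∈ B, ∀ x : S, (θ : S → ℂ) (b x) = (θ : S → ℂ) x := by
    intro χ h2 h3
    have h4 : RatInv S B := ⟨χ.1, χ.1.2, hT2 χ.1 χ.2, ((hT1 χ.1).1 χ.2).1, h2, fun b hb => hfix χ h3 b hb⟩
    exact h4.exists_irr
  have hle : Nat.card (MulAction.fixedPoints B T) ≤ T.card := by
    rw [← hTc]
    exact Nat.card_le_card_of_injective _ Subtype.val_injective
  have hoddc : Odd (Nat.card (MulAction.fixedPoints B T)) := by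
    rw [Nat.odd_iff] at hT ⊢
    have h2 : T.card % 2 = Nat.card (MulAction.fixedPoints B T) % 2 := hmod
    omega
  by_cases hc1 : Nat.card (MulAction.fixedPoints B T) = 1
  · -- one fixed point: it is rational
    rw [Nat.card_eq_one_iff_unique] at hc1
    obtain ⟨hsub, ⟨χ⟩⟩ := hc1
    refine hout χ.1 (fun g => ?_) χ.2
    apply GaloisBasic.exists_rat_of_forall_ringEquiv
    · exact (GaloisBasic.isIntegral_apply (Core.isIrr_isCharacter χ.1.1.2) g).tower_top
    · intro σ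
      have hm : σ • χ.1.1 ∈ T := hT5 hrat σ _ χ.1.2
      have hf : (⟨σ • χ.1.1, hm⟩ : T) ∈ MulAction.fixedPoints B T := by
        intro b
        apply Subtype.ext
        change tw (b : MulAut S) (σ • χ.1.1) = σ • χ.1.1
        rw [mem_stab_iff_tw]
        intro x
        have h2 := hfix χ.1 χ.2 b.1 b.2 x
        change σ ((χ.1.1 : S → ℂ) ((b : MulAut S) x)) = σ ((χ.1.1 : S → ℂ) x)
        rw [h2]
      have h3 : (⟨⟨σ • χ.1.1, hm⟩, hf⟩ : MulAction.fixedPoints B T) = χ := Subsingleton.elim _ _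
      exact congrFun (congrArg (fun z : MulAction.fixedPoints B T => (z.1.1 : S → ℂ)) h3) g
  · -- three fixed points: all of `T`
    have h3 : T.card = 3 ∧ Nat.card (MulAction.fixedPoints B T) = 3 := by
      obtain ⟨k, hk⟩ := hoddc
      obtain ⟨l, hl⟩ := hT
      omega
    have hρT : ρ ∈ T := by
      by_contra hcon
      -- the norm is at least `3 + 4`
      have := Fintype.ofFinite (IrrCharacter S)
      obtain ⟨m, hm⟩ := Core.isGeneralizedCharacter_iff.1 hg
      have h4 : ((n : ℕ) : ℤ) = ∑ χ, m χ ^ 2 := (sum_sq hm hn).symm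
      have hρ2 : (4 : ℤ) ≤ m ρ ^ 2 := by
        have h5 : m ρ ≠ 0 := by
          intro h0
          apply hρψ
          rw [coeff_eq hm, h0, Int.cast_zero]
        have h6 : ¬ Odd (m ρ) := fun h7 => hcon ((hT1 ρ).2 ⟨hρ, m ρ, h7, coeff_eq hm ρ⟩)
        rw [Int.not_odd_iff_even] at h6
        obtain ⟨k, hk⟩ := h6
        have hk0 : k ≠ 0 := by
          rintro rfl
          exact h5 (by rw [hk, add_zero])
        have h8 : (0 : ℤ) < k ^ 2 := sq_pos_of_ne_zero hk0
        rw [hk]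
        nlinarith
      have h5 : ∀ χ ∈ T, (1 : ℤ) ≤ m χ ^ 2 := by
        intro χ hχ
        obtain ⟨-, k, hk, hk1⟩ := (hT1 χ).1 hχ
        rw [coeff_eq hm] at hk1
        have h6 : m χ = k := by exact_mod_cast hk1
        have h0 : m χ ≠ 0 := by
          rw [h6]
          rintro rfl
          exact absurd hk (by decide)
        have := sq_pos_of_ne_zero h0
        omega
      have h6 : (3 : ℤ) ≤ ∑ χ ∈ T, m χ ^ 2 := by
        have := Finset.card_nsmul_le_sum T (fun χ => m χ ^ 2) 1 h5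
        rw [h3.1] at this
        simpa using this
      have h7 : m ρ ^ 2 + ∑ χ ∈ T, m χ ^ 2 ≤ ∑ χ, m χ ^ 2 := by
        rw [← Finset.sum_insert (f := fun χ => m χ ^ 2) hcon]
        exact Finset.sum_le_sum_of_subset_of_nonneg (Finset.subset_univ _) fun _ _ _ => sq_nonneg _
      omega
    have hall : (⟨ρ, hρT⟩ : T) ∈ MulAction.fixedPoints B T := by
      have h4 : Function.Surjective (Subtype.val : MulAction.fixedPoints B T → T) := by
        have h5 : Nat.card T = Nat.card (MulAction.fixedPoints B T) := by rw [hTc, h3.1, h3.2]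
        exact ((Nat.bijective_iff_injective_and_card _).2 ⟨Subtype.val_injective, h5.symm⟩).2
      obtain ⟨z, hz⟩ := h4 ⟨ρ, hρT⟩
      rw [← hz]
      exact z.2
    exact hout ⟨ρ, hρT⟩ hρr hall

end

section

variable {G : Type u} [Group G] [Fintype G]

/-- **Norm four**, with the constituent. -/
theorem exists_rho_of_four {P E : Subgroup G} (hPE : P ≤ E) [Fintype E] [Fintype P] {Θ : P → ℂ}
    (hΘ : IsIrrCharacter P Θ) (hΘ1 : Θ ≠ 1) (hrat : ∀ x, ∃ q : ℚ, Θ x = q) {d : ℕ} (hd : Odd d)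
    (hd1 : Θ 1 = d) (hP : Odd P.index) {n : ℕ}
    (hn : classInner (indFun P Θ) (indFun P Θ) = n) (hn4 : n ≤ 4)
    (hE : classInner (indFun (P.subgroupOf E) (sub P E Θ)) (indFun (P.subgroupOf E) (sub P E Θ)) = 2)
    {w : G} (hw : w ∉ E) (hD : ∀ x ∈ E, w⁻¹ * x * w ∈ P → x ∈ P)
    (hinv : ∀ (x : G) (hx : x ∈ P) (hx' : w⁻¹ * x * w ∈ P), Θ ⟨x, hx⟩ = Θ ⟨w⁻¹ * x * w, hx'⟩) :
    ∃ ρ : IrrCharacter G, OddDeg (ρ : G → ℂ) ∧ (∀ g, ∃ q : ℚ, (ρ : G → ℂ) g = q) ∧
      classInner (indFun P Θ) (ρ : G → ℂ) ≠ 0 := by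
  classical
  have hΘc := Core.isIrr_isCharacter hΘ
  have hsub := isCharacter_sub hPE hΘc
  obtain ⟨Ψ, hΨdef⟩ : ∃ Ψ, Ψ = indFun (P.subgroupOf E) (sub P E Θ) := ⟨_, rfl⟩
  have hΨ : IsCharacter E Ψ := hΨdef ▸ Cfsg.Agent.S0148.result _ _ hsub
  have hmul := Subgroup.relIndex_mul_index hPE
  have hEi : Odd E.index := by rw [← hmul] at hP; exact (Nat.odd_mul.1 hP).2
  have hPi : Odd (P.subgroupOf E).index := by rw [← hmul] at hP; exact (Nat.odd_mul.1 hP).1
  have : Fintype (P.subgroupOf E) := Fintype.ofFinite _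
  have hΨ1 : Ψ 1 = (((P.subgroupOf E).index * d : ℕ) : ℤ) := by
    rw [hΨdef, indFun_one, sub]
    rw [show (⟨(((1 : P.subgroupOf E) : E) : G), Subgroup.mem_subgroupOf.1 (1 : P.subgroupOf E).2⟩ : P) = 1
      from rfl, hd1]
    push_cast
    ring
  have hΨrat : ∀ x, ∃ q : ℚ, Ψ x = q := by
    have h1 : ∀ x y : E, ∃ q : ℚ, extendByZero (P.subgroupOf E) (sub P E Θ) (x⁻¹ * y * x) = q := by
      intro x y
      rw [ext_sub]
      by_cases h : ((x⁻¹ * y * x : E) : G) ∈ P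
      · rw [ext_apply_mem _ _ _ h]; exact hrat _
      · rw [ext_apply_not_mem _ _ _ h]; exact ⟨0, by simp⟩
    intro y
    choose f hf using fun x => h1 x y
    refine ⟨(Nat.card (P.subgroupOf E) : ℚ)⁻¹ * ∑ x : E, f x, ?_⟩
    rw [hΨdef, indFun_apply, Finset.sum_congr rfl fun x _ => hf x]
    push_cast
    rfl
  rw [← hΨdef] at hE
  -- Frobenius reciprocity for `P ≤ E`
  have hfrob : ∀ χ : E → ℂ, IsClassFunction E χ →
      classInner Ψ χ = classInner Θ (fun x : P => χ ⟨x, hPE x.2⟩) := by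
    intro χ hχ
    rw [hΨdef, classInner_indFun _ _ _ hχ, classInner_apply, classInner_apply, card_sub hPE]
    congr 1
    exact Fintype.sum_equiv (Subgroup.subgroupOfEquivOfLe hPE).toEquiv _ _ fun x => rfl
  have hΨ0 : classInner Ψ 1 = 0 := by
    rw [hfrob _ (Core.isIrr_isClassFunction Core.isIrr_one)]
    exact Core.classInner_irr_ne hΘ Core.isIrr_one hΘ1
  have hgen : IsGeneralizedCharacter E Ψ := ⟨Ψ, 0, hΨ, Core.isCharacter_zero, by rw [sub_zero]⟩
  obtain ⟨S, hS, hS1, hS2, hS3⟩ := exists_odd_supp hgen hΨrat hΨ0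
    ⟨_, by rw [Int.odd_coe_nat]; exact hPi.mul hd, hΨ1⟩
  have h2 := (hS3 2 (by rw [hE]; norm_num)).1
  have h3 : S.card = 1 := by
    obtain ⟨k, hk⟩ := hS
    omega
  obtain ⟨χ, rfl⟩ := Finset.card_eq_one.1 h3
  obtain ⟨h4, ⟨e, he, he1⟩, k, hk, hk1⟩ := hS1 χ (Finset.mem_singleton_self χ)
  have hfix : ∀ σ : ℂ ≃+* ℂ, σ • χ = χ := fun σ =>
    Finset.mem_singleton.1 (hS2 σ χ (Finset.mem_singleton_self χ))
  have hχrat : ∀ x, ∃ q : ℚ, (χ : E → ℂ) x = q := by
    intro x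
    apply GaloisBasic.exists_rat_of_forall_ringEquiv
    · exact (GaloisBasic.isIntegral_apply (Core.isIrr_isCharacter χ.2) x).tower_top
    · intro σ
      exact congrFun (congrArg Subtype.val (hfix σ)) x
  have hk0 : classInner Ψ (χ : E → ℂ) ≠ 0 := by
    rw [hk1]
    intro h0
    have : k = 0 := by exact_mod_cast h0
    rw [this] at hk
    exact absurd hk (by decide)
  have hC : IsCharacter E (Ψ - χ) := isCharacter_sub_irr hΨ χ.2 hk0
  -- the norm of the complement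
  obtain ⟨a, ha⟩ := Core.classInner_isNat hΨ (Core.isIrr_isCharacter χ.2)
  obtain ⟨b, hb⟩ := Core.classInner_isNat hC hC
  have ha' : classInner (χ : E → ℂ) Ψ = a := by
    rw [← Core.classInner_conj_symm, ha, Complex.conj_natCast]
  have hχχ : classInner (χ : E → ℂ) (χ : E → ℂ) = 1 := Core.classInner_irr_self χ.2
  have hab : (b : ℤ) = 2 - a - (a - 1) := by
    have h5 : classInner (Ψ - (χ : E → ℂ)) (Ψ - (χ : E → ℂ)) = 2 - a - (a - 1) := by
      rw [Core.classInner_sub_left, Core.classInner_sub_right, Core.classInner_sub_right, hE, ha, ha', hχχ]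
    rw [hb] at h5
    exact_mod_cast h5
  have ha0 : a ≠ 0 := by
    rintro rfl
    rw [Nat.cast_zero] at ha
    exact hk0 ha
  have ha1 : a = 1 := by omega
  have hb1 : b = 1 := by omega
  have hCirr : IsIrrCharacter E (Ψ - χ) := by
    refine Core.isIrr_of_classInner_self hC ?_
    rw [hb, hb1, Nat.cast_one]
  -- both constituents lie over `Θ`
  have hover : ∀ ξ : E → ℂ, IsIrrCharacter E ξ → classInner Ψ ξ ≠ 0 →
      classInner (fun x : P => ξ ⟨x, hPE x.2⟩) Θ ≠ 0 := by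
    intro ξ hξ h5 h6
    apply h5
    rw [hfrob _ (Core.isIrr_isClassFunction hξ), ← Core.classInner_conj_symm, h6, map_zero]
  have hχo := hover _ χ.2 hk0
  have hCo := hover _ hCirr (by
    rw [Core.classInner_sub_right, hE, ha, ha1]
    norm_num)
  have hsum : indFun P Θ = indFun E (χ : E → ℂ) + indFun E (Ψ - χ) := by
    rw [← Cfsg.Agent.OddOrderCharacters.IndRes.indFun_add, add_sub_cancel, hΨdef, indFun_trans hPE]
  have hA : IsCharacter G (indFun E (χ : E → ℂ)) := Cfsg.Agent.S0148.result _ _ (Core.isIrr_isCharacter χ.2)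
  have hB : IsCharacter G (indFun E (Ψ - χ)) := Cfsg.Agent.S0148.result _ _ hC
  have hPc : IsCharacter G (indFun P Θ) := Cfsg.Agent.S0148.result _ _ hΘc
  obtain ⟨a1, ha1'⟩ := Core.classInner_isNat hA hPc
  obtain ⟨a2, ha2'⟩ := Core.classInner_isNat hB hPc
  have h5 := two_le_inner hPE hΘ (Core.isIrr_isCharacter χ.2) hχo hw hD hinv ha1'
  have h6 := two_le_inner hPE hΘ hC hCo hw hD hinv ha2'
  have h7 : a1 + a2 = n := by
    have h8 : ((a1 + a2 : ℕ) : ℂ) = n := by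
      rw [Nat.cast_add, ← ha1', ← ha2', ← hn, ← Core.classInner_add_left, ← hsum]
    exact_mod_cast h8
  obtain ⟨c1, hc1⟩ := Core.classInner_isNat hA hA
  obtain ⟨c2, hc2⟩ := Core.classInner_isNat hA hB
  have h8 : c1 + c2 = a1 := by
    have h9 : ((c1 + c2 : ℕ) : ℂ) = a1 := by
      rw [Nat.cast_add, ← hc1, ← hc2, ← ha1', hsum, Core.classInner_add_right]
    exact_mod_cast h9
  have hfin : ∃ ρ : IrrCharacter G, OddDeg (ρ : G → ℂ) ∧ (∀ g, ∃ q : ℚ, (ρ : G → ℂ) g = q) ∧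
      classInner (indFun E (χ : E → ℂ)) (ρ : G → ℂ) ≠ 0 := by
    refine exists_rho (ψ := indFun E (χ : E → ℂ)) ⟨_, 0, hA, Core.isCharacter_zero, by rw [sub_zero]⟩ ?_ ?_
      ?_ hc1 (by omega)
    · have h1 : ∀ x y : G, ∃ q : ℚ, extendByZero E (χ : E → ℂ) (x⁻¹ * y * x) = q := by
        intro x y
        by_cases h : x⁻¹ * y * x ∈ E
        · rw [ext_apply_mem _ _ _ h]; exact hχrat _
        · rw [ext_apply_not_mem _ _ _ h]; exact ⟨0, by simp⟩
      intro y
      choose f hf using fun x => h1 x y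
      refine ⟨(Nat.card E : ℚ)⁻¹ * ∑ x : G, f x, ?_⟩
      rw [indFun_apply, Finset.sum_congr rfl fun x _ => hf x]
      push_cast
      rfl
    · rw [classInner_indFun _ _ _ (Core.isIrr_isClassFunction Core.isIrr_one)]
      exact Core.classInner_irr_ne χ.2 Core.isIrr_one h4
    · refine ⟨((E.index * e : ℕ) : ℤ), ?_, ?_⟩
      · rw [Int.odd_coe_nat]
        exact hEi.mul he
      · rw [indFun_one, he1]
        push_cast
        ring
  obtain ⟨ρ, r1, r2, r3⟩ := hfin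
  refine ⟨ρ, r1, r2, ?_⟩
  rw [hsum, Core.classInner_add_left]
  obtain ⟨u1, hu1⟩ := Core.classInner_isNat hA (Core.isIrr_isCharacter ρ.2)
  obtain ⟨u2, hu2⟩ := Core.classInner_isNat hB (Core.isIrr_isCharacter ρ.2)
  rw [hu1] at r3
  rw [hu1, hu2, ← Nat.cast_add, Nat.cast_ne_zero]
  have h9 : u1 ≠ 0 := fun h0 => r3 (by rw [h0, Nat.cast_zero])
  omega

end

end Cfsg.Agent.H802.R2.FTwo
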