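import Cfsg.Agent.H802.R2.FTwoRet
import Cfsg.Agent.H802.R2.FTwoSl
import Cfsg.Agent.H706.Gow.FFour
import Cfsg.Agent.H310.R2.StdF4
import Cfsg.Agent.H743.GG.HC2

/-!
# S4829, `p = 2`, `F₄(2)`: preparations (helper802)

`|K| = 2`, `Y = F₄(2)`:

* `TT_eq_bot`;
* `mem_LJ_two` : the elements of `L_{k₁, k₂}`;
* `phi_val` : the values of `η(π₁) η(π₂)` on `L_J`;
* `theta_eq` : `θ ∘ c = η(π₁) η(π₂)`.
-/

set_option autoImplicit false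
set_option linter.unusedSectionVars false

open scoped ComplexConjugate MatrixGroups
open Cfsg

namespace Cfsg.Agent.H802.R2.FTwo

open Cfsg.Agent.Characters Cfsg.Agent.H497.Gow Cfsg.Agent.H310.R2 Cfsg.Agent.H636.Gow.CuspSL
open Cfsg.Agent.H770.CY Cfsg.Agent.H554.RG Cfsg.Agent.H53.HC
open Cfsg.Lie Cfsg.Agent.Nodes.RGDChev Cfsg.Agent.Nodes.RGDLib
open CoxeterSystem Cfsg.Agent.ChevalleyStructure.CoxeterGeom Cfsg.Agent.ChevalleyStructure.CoxeterGeomTypes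
open Cfsg.Agent.Tits.Roots Cfsg.Agent.Tits.Core Cfsg.Agent.Nodes.Reps Cfsg.Agent.Nodes.BNOf Cfsg.Agent.Nodes.Bruhat
  Cfsg.Agent.Nodes.LeviDec Cfsg.Agent.H706.Gow Cfsg.Agent.Nodes.StabComb
open Cfsg.Agent.H627.Gow Cfsg.Agent.H636.Gow Cfsg.Agent.H650.GowChev Cfsg.Agent.BpExc.TorChev
  Cfsg.Agent.KFacts.RgdChevCoord Cfsg.Agent.KFacts.RgdField

section tt

/-- conditions on the root elements are enough (copy of `BpExc.FamExt.group_induction`) -/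
theorem group_induction' {D : ChevalleyDatum} {l : ℕ} {M : CoxeterMatrix (Fin l)} (hp : IsType D l M) {F : Type*}
    [Field F] {P : ↥(D.group F) → Prop} (h1 : P 1) (hm : ∀ a b, P a → P b → P (a * b))
    (hi : ∀ a, P a → P a⁻¹) (hx : ∀ r, r < D.nroots → ∀ t, P (xc hp (vec D l r) t)) (g : ↥(D.group F)) : P g := by
  let S : Subgroup ↥(D.group F) :=
    { carrier := {g | P g}
      one_mem' := h1
      mul_mem' := fun {a b} ha hb => hm a b ha hb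
      inv_mem' := fun {a} ha => hi a ha }
  have h2 : D.group F ≤ S.map (D.group F).subtype := by
    rw [Cfsg.Agent.ChevalleyStructure.Elts.group_le_iff hp.inList]
    intro r hr t
    refine ⟨xc hp (vec D l r) t, hx r hr t, ?_⟩
    exact coe_xc hp hr t
  obtain ⟨g', hg', e⟩ := h2 g.2
  have h3 : g' = g := Subtype.ext e
  rw [← h3]
  exact hg'

variable (K : Type*) [Field K] [Finite K] [CharP K 2]

/-- **the torus of `F₄(2)` is trivial** -/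
theorem TT_eq_bot (hK : Nat.card K = 2) : TT chevF4 K = ⊥ := by
  have : Fact (Nat.Prime 2) := ⟨Nat.prime_two⟩
  let cs := CoxeterMatrix.F₄.toCoxeterSystem
  have C := coords (K := K) isType4 cs 2
  rw [Subgroup.eq_bot_iff_forall]
  intro t ht
  have h1 : ∀ g : ↥(chevF4.group K), t * g = g * t := by
    intro g
    refine group_induction' isType4 (P := fun g => t * g = g * t) (by rw [mul_one, one_mul]) ?_ ?_ ?_ g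
    · intro a b ha hb
      rw [← mul_assoc, ha, mul_assoc, hb, mul_assoc]
    · intro a ha
      rw [mul_inv_eq_iff_eq_mul, mul_assoc, ha, inv_mul_cancel_left]
    · intro s hs x
      have hr : IsRoot cs isType4.isCartan (vec chevF4 4 s) := (isRoot_iff isType4 cs _).2 ⟨s, hs, rfl⟩
      have h2 := (C.coord _ hr).act t ht x
      rw [eq_one_of_two hK ((C.coord _ hr).chi_ne_zero ht), one_mul, mul_inv_eq_iff_eq_mul] at h2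
      exact h2
  have h2 : t ∈ Subgroup.center ↥(chevF4.group K) := Subgroup.mem_center_iff.2 fun g => (h1 g).symm
  rw [H70.OutCount.center_eq_bot isType4.inList] at h2
  exact h2

end tt

section gen

variable {I W Y : Type*} [Fintype I] [DecidableEq I] [Group W] [Group Y] {M : CoxeterMatrix I}
  {cs : CoxeterSystem M W} {A : I → I → ℤ} {h : IsCartan M A} {p : ℕ} {T : Subgroup Y} {n : I → Y}
  {X : (I → ℤ) → Subgroup Y} {F : Type*} [Field F] {k₁ k₂ : I} {φ₁ φ₂ : SL(2, F) →* Y}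

/-- the elements of `L_J` -/
theorem mem_LJ_two (R : RGD cs h p T n X) (hT : T = ⊥) (N : TwoN cs h X k₁ k₂ φ₁ φ₂) {y : Y}
    (hy : y ∈ LJ cs h T X ({k₁} ∪ {k₂})) : ∃ a b, φ₁ a * φ₂ b = y := by
  obtain ⟨t, ht, m, hm, rfl⟩ := (mem_LJ_iff_mul R _).1 hy
  obtain ⟨a, b, rfl⟩ := N.exists_mem hm
  rw [hT, Subgroup.mem_bot] at ht
  exact ⟨a, b, by rw [ht, one_mul]⟩

/-- the values of `η(π₁) η(π₂)` -/
theorem phi_val [Finite W] {J : Set I} (hJ1 : J \ {k₁} = {k₂}) (hJ2 : J \ {k₂} = {k₁})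
    {π₁ π₂ : ↥(PJ cs h T X J) →* SL(2, F)} (P₁ : Proj cs h T X J k₁ φ₁ π₁) (P₂ : Proj cs h T X J k₂ φ₂ π₂)
    (a b : SL(2, F)) {y : Y} (hy : y ∈ PJ cs h T X J) (he : φ₁ a * φ₂ b = y) :
    π₁ ⟨y, hy⟩ = a ∧ π₂ ⟨y, hy⟩ = b := by
  obtain ⟨g1, e1⟩ := P₁.fix a
  obtain ⟨g2, e2⟩ := P₂.fix b
  have h1 : φ₁ a ∈ MJ cs h X (J \ {k₂}) := by
    rw [hJ2, ← P₁.node.range]
    exact ⟨a, rfl⟩
  have h2 : φ₂ b ∈ MJ cs h X (J \ {k₁}) := by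
    rw [hJ1, ← P₂.node.range]
    exact ⟨b, rfl⟩
  obtain ⟨g3, e3⟩ := P₂.killM _ h1
  obtain ⟨g4, e4⟩ := P₁.killM _ h2
  have e5 : (⟨y, hy⟩ : ↥(PJ cs h T X J)) = ⟨φ₁ a, g3⟩ * ⟨φ₂ b, g4⟩ := Subtype.ext he.symm
  rw [e5, map_mul, map_mul, e3, e4]
  constructor
  · rw [mul_one]
    exact e1
  · rw [one_mul]
    exact e2

/-- **`θ ∘ c = η(π₁) η(π₂)`** -/
theorem theta_eq [Finite W] [CharP F 2] (R : RGD cs h p T n X) (hT : T = ⊥) (N : TwoN cs h X k₁ k₂ φ₁ φ₂)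
    {c : ↥(PJ cs h T X (({k₁} ∪ {k₂}) ∪ ∅)) →* ↥(MJ cs h X ({k₁} ∪ {k₂}))}
    (hc : Ret cs h T X ({k₁} ∪ {k₂}) ∅ c) (hJ1 : (({k₁} ∪ {k₂}) ∪ ∅) \ {k₁} = ({k₂} : Set I))
    (hJ2 : (({k₁} ∪ {k₂}) ∪ ∅) \ {k₂} = ({k₁} : Set I))
    {π₁ π₂ : ↥(PJ cs h T X (({k₁} ∪ {k₂}) ∪ ∅)) →* SL(2, F)}
    (P₁ : Proj cs h T X (({k₁} ∪ {k₂}) ∪ ∅) k₁ φ₁ π₁) (P₂ : Proj cs h T X (({k₁} ∪ {k₂}) ∪ ∅) k₂ φ₂ π₂)
    (χ : SL(2, F) → ℂ) : N.theta χ ∘ c = fun x => χ (π₁ x) * χ (π₂ x) := by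
  funext ⟨x, hx⟩
  obtain ⟨l, hl, v, hv, rfl⟩ := (mem_PJ R).1 hx
  have hl' : l ∈ LJ cs h T X ({k₁} ∪ {k₂}) := by rwa [Set.union_empty] at hl
  obtain ⟨a, b, rfl⟩ := mem_LJ_two R hT N hl'
  have hm : φ₁ a * φ₂ b ∈ MJ cs h X ({k₁} ∪ {k₂}) := N.mem a b
  have e1 : (⟨φ₁ a * φ₂ b * v, hx⟩ : ↥(PJ cs h T X (({k₁} ∪ {k₂}) ∪ ∅))) = ⟨φ₁ a * φ₂ b, LJ_le_PJ hl⟩ * ⟨v, VJ_le_PJ hv⟩ := rfl
  have hvk : ∀ k ∈ (({k₁} ∪ {k₂}) ∪ ∅ : Set I), v ∈ RGD.Sup X (NotJ cs h {k}) := by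
    intro k hk
    refine RGD.Sup_mono ?_ hv
    rintro x ⟨h1, h2, j, hj, h3⟩
    exact ⟨h1, h2, j, fun hjk => hj (by rw [Set.mem_singleton_iff.1 hjk]; exact hk), h3⟩
  obtain ⟨hv1, e3⟩ := P₁.kill v (hvk _ P₁.mem)
  obtain ⟨hv2, e4⟩ := P₂.kill v (hvk _ P₂.mem)
  obtain ⟨v1, v2⟩ := phi_val hJ1 hJ2 P₁ P₂ a b (LJ_le_PJ hl) rfl
  rw [Function.comp_apply, e1, map_mul, hc.killV v hv, mul_one]
  have e5 : c ⟨φ₁ a * φ₂ b, LJ_le_PJ hl⟩ = ⟨φ₁ a * φ₂ b, hm⟩ := hc.fix _ hm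
  rw [e5, N.theta_apply χ a b hm rfl]
  change χ a * χ b = χ (π₁ (⟨φ₁ a * φ₂ b, LJ_le_PJ hl⟩ * ⟨v, VJ_le_PJ hv⟩)) *
    χ (π₂ (⟨φ₁ a * φ₂ b, LJ_le_PJ hl⟩ * ⟨v, VJ_le_PJ hv⟩))
  rw [map_mul, map_mul, v1, v2]
  have e6 : π₁ ⟨v, VJ_le_PJ hv⟩ = 1 := e3
  have e7 : π₂ ⟨v, VJ_le_PJ hv⟩ = 1 := e4
  rw [e6, e7, mul_one, mul_one]

end gen

end Cfsg.Agent.H802.R2.FTwo
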