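import Cfsg.Agent.H802.R2.EvenAsm
import Cfsg.Agent.H19.R2.OMinus
import Cfsg.Agent.H226.R2.SzTf

/-!
# S4829, `p = 2`: the slots (helper802)

`Open` : the slots which are still open; `slots_of : Open → Slots`.
-/

set_option autoImplicit false

namespace Cfsg.Agent.H802.R2

open Cfsg Cfsg.Agent.H770.CY Cfsg.Agent.H776.CY

/-- the open families -/
structure Open : Prop where
  sp4 : RowFor2 (fun X _ => ∃ (F : Type) (_ : Field F) (_ : Fintype F) (_ : CharP F 2), 3 ≤ Fintype.card F ∧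
    Nonempty (X ≃* PSp 2 F))
  oplus : RowFor2 (fun X _ => ∃ (F : Type) (_ : Field F) (_ : Fintype F) (_ : CharP F 2) (m : ℕ), 4 ≤ m ∧
    Nonempty (X ≃* POmega F (quadFormPlus m F)))
  g2 : RowFor2 (fun X _ => ∃ (F : Type) (_ : Field F) (_ : Fintype F) (_ : CharP F 2), 3 ≤ Fintype.card F ∧
    Nonempty (X ≃* Lie.chevG2.group F))
  f4 : RowFor2 (fun X _ => ∃ (F : Type) (_ : Field F) (_ : Fintype F) (_ : CharP F 2),
    Nonempty (X ≃* Lie.chevF4.group F))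
  e6 : RowFor2 (fun X _ => ∃ (F : Type) (_ : Field F) (_ : Fintype F) (_ : CharP F 2),
    Nonempty (X ≃* Lie.chevE6.group F))
  e7 : RowFor2 (fun X _ => ∃ (F : Type) (_ : Field F) (_ : Fintype F) (_ : CharP F 2),
    Nonempty (X ≃* Lie.chevE7.group F))
  e8 : RowFor2 (fun X _ => ∃ (F : Type) (_ : Field F) (_ : Fintype F) (_ : CharP F 2),
    Nonempty (X ≃* Lie.chevE8.group F))
  te6 : RowFor2 (fun X _ => ∃ (F : Type) (_ : Field F) (_ : Fintype F) (_ : CharP F 2) (q : ℕ), IsPrimePow q ∧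
    Fintype.card F = q ^ 2 ∧ Nonempty (X ≃* Lie.twistedE6 F q))
  td4 : RowFor2 (fun X _ => ∃ (F : Type) (_ : Field F) (_ : Fintype F) (_ : CharP F 2) (q : ℕ), IsPrimePow q ∧
    Fintype.card F = q ^ 3 ∧ Nonempty (X ≃* Lie.twistedD4 F q))
  tits : RowFor2 (fun X _ => Lie.IsoTits X)
  spor : RowFor2 (fun X _ => IsSporadicGroup X)

theorem slots_of (R : Open) : Slots where
  sp4 := R.sp4
  oplus := R.oplus
  ominus := by
    intro X _ _ _ hna h
    obtain ⟨F, _, _, hc, m, a, b, hm, hab, ⟨e⟩⟩ := h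
    exact Row2.congr e (H19.R2.row2_minus hm hab)
  g2 := R.g2
  f4 := R.f4
  e6 := R.e6
  e7 := R.e7
  e8 := R.e8
  te6 := R.te6
  td4 := R.td4
  tf4 := by
    intro X _ _ _ hna h
    obtain ⟨F, _, _, hc, m, hm, hq, ⟨e⟩⟩ := h
    exact H226.R2.row2_tf4 ⟨F, inferInstance, inferInstance, m, hm, hq, ⟨e⟩⟩
  sz := H226.R2.rowFor2_sz
  tits := R.tits
  spor := R.spor

end Cfsg.Agent.H802.R2
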