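import Cfsg.Agent.H328.Gow.RowPsu
import Cfsg.Agent.H802.R2.CusF
import Cfsg.Agent.H226.R2.Base
import Cfsg.Agent.ClassicalGeometry.PSUAutMain

/-!
# S4829, `p = 2`: `PSU_n(2^f)`, `n ≥ 4` or `2^f ≡ 1 (mod 3)` (helper802)

The character of helper328 is fixed by all automorphisms `s ↦ A ρ(s) A⁻¹`, `A ∈ GU_n(q)`.
-/

set_option autoImplicit false
set_option linter.style.haveILetI false

open scoped ComplexConjugate
open Cfsg

namespace Cfsg.Agent.H802.R2

open Cfsg.Agent.OddOrderCharacters.Clifford Cfsg.Agent.Characters MulAction Module Cfsg.Agent.H53.HC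
  Cfsg.Agent.H477.HC Cfsg.Agent.H636.Gow Cfsg.Agent.H477.HC.CForm Cfsg.Agent.H328.Gow Cfsg.Agent.H770.CY
  Cfsg.Agent.ClassicalGeometry.PSUAutCount

universe u v w

variable {K : Type u} [Field K] [Fintype K]

/-- the semilinear map `v ↦ A (ρ v)` -/
noncomputable def semi {q n : ℕ} (A : GU n K q) (ρ : K ≃+* K) : (Fin n → K) ≃+ (Fin n → K) :=
  (AddEquiv.piCongrRight fun _ : Fin n => ρ.toAddEquiv).trans (matE (A : GL (Fin n) K)).toAddEquiv

theorem semi_apply {q n : ℕ} (A : GU n K q) (ρ : K ≃+* K) (v : Fin n → K) :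
    semi A ρ v = (gm A).mulVec fun i => ρ (v i) := rfl

theorem semi_smul {q n : ℕ} (A : GU n K q) (ρ : K ≃+* K) (a : K) (v : Fin n → K) :
    semi A ρ (a • v) = ρ a • semi A ρ v := by
  rw [semi_apply, semi_apply, ← Matrix.mulVec_smul]
  congr 1
  ext i
  rw [Pi.smul_apply, smul_eq_mul, map_mul]
  rfl

theorem hcf_toAut {n q : ℕ} (hq : Nat.card K = q ^ 2)
    {k : ℕ} (hk : 0 < k) [Fintype (CForm.hermF K hq n).iso] [Fintype ((CForm.hermF K hq n).Om k)]
    {W₀ : Submodule K (Fin n → K)} (hW₀ : W₀ ∈ (CForm.hermF K hq n).Om k) {c : GL (Fin k) K → ℂ}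
    (hc : RCus K k (powHom hq) c) (hcf' : FieldGal c) (A : GU n K q) (ρ : K ≃+* K) (s : SU n K q) :
    hcf (CForm.hermF K hq n) c (suHom hq n (semiConj A ρ s)) = hcf (CForm.hermF K hq n) c (suHom hq n s) := by
  refine hcf_semi_fixed (CForm.hermF K hq n) hk hc.irr hc.cusp hW₀ hc.gal hcf' ρ (semi A ρ) (semi_smul A ρ)
    (lam := 1) (mu := 1) (fun u v => ?_) (fun v => ?_) fun v => ?_
  · rw [one_mul]
    exact herm_semi A ρ u v
  · rw [one_mul]
    exact herm_semi A ρ v v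
  · exact act_semiConj A ρ s v

theorem psu_row' {n q : ℕ} (hF : Fintype.card K = q ^ 2) (hq : Nat.card K = q ^ 2) (hn : 3 ≤ n)
    (h32 : ¬ (n = 3 ∧ q = 2))
    {k : ℕ} (hk : 0 < k) [Fintype (CForm.hermF K hq n).iso] [Fintype ((CForm.hermF K hq n).Om k)]
    {W₀ : Submodule K (Fin n → K)} (hW₀ : W₀ ∈ (CForm.hermF K hq n).Om k) {c : GL (Fin k) K → ℂ}
    (hc : RCus K k (powHom hq) c) (hcf' : FieldGal c)
    (hz : ∀ z : Kˣ, z ^ (q + 1) = 1 → c (Matrix.GeneralLinearGroup.scalar (Fin k) z) = c 1)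
    (hOm : Odd (Nat.card ((CForm.hermF K hq n).Om k)))
    (hirr : IsIrrCharacter (sg (CForm.hermF K hq n))
      (fun g : sg (CForm.hermF K hq n) => hcf (CForm.hermF K hq n) c g)) : Row2 (PSU n K q) := by
  classical
  have hcl := Core.isIrr_isClassFunction hc.irr
  have h1 := Core.isIrr_comp (suHom hq n) (suHom_surjective hq n) hirr
  have hfin : Finite (SU n K q) := inferInstance
  obtain ⟨η, hη, hη'⟩ := exists_quot (Subgroup.center (SU n K q)) h1 (fun z hz' => by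
    obtain ⟨a, han, haq, rfl⟩ := (Cfsg.Agent.LieClassical.SUBasic.mem_center_SU_iff hF hn z).1 hz'
    have ha0 : a ≠ 0 := by
      rintro rfl
      rw [zero_pow (Nat.succ_ne_zero q)] at haq
      exact zero_ne_one haq
    refine (CForm.hc_scalar (CForm.hermF K hq n) hcl (fun _ _ => 1) (a := Units.mk0 a ha0) (fun v => ?_)
      (hz _ (Units.ext haq)) (fun _ _ => rfl)).trans ?_
    · change (Matrix.diagonal (fun _ => a)).mulVec v = a • v
      ext i
      rw [Matrix.mulVec_diagonal, Pi.smul_apply, smul_eq_mul]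
    · rw [Function.comp_apply, map_one]
      rfl)
  obtain ⟨d, hd, hcd⟩ := hc.deg
  have hdeg : η 1 = ((Nat.card ((CForm.hermF K hq n).Om k) * d : ℕ) : ℂ) := by
    have := hη' 1
    rw [QuotientGroup.mk_one] at this
    rw [this, Function.comp_apply, map_one]
    change hcf (CForm.hermF K hq n) c 1 = _
    rw [hcf_one _ hcl, hcd, Nat.cast_mul]
  refine H226.R2.row2_of_odd_index (Γ := ⊤) (by rw [Subgroup.index_top]; exact odd_one)
    ⟨η, hη, ?_, ⟨_, hOm.mul hd, hdeg⟩, ?_, ?_⟩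
  · rintro rfl
    rw [Pi.one_apply] at hdeg
    have h2 : Nat.card ((CForm.hermF K hq n).Om k) * d = 1 := by exact_mod_cast hdeg.symm
    exact card_Om_ne_one _ hk hW₀ (Nat.eq_one_of_mul_eq_one_right h2)
  · intro g
    obtain ⟨x, rfl⟩ := QuotientGroup.mk_surjective g
    rw [hη']
    exact hcf_rat _ hk hc.irr hc.cusp hW₀ hc.gal _
  · intro β _ g
    obtain ⟨A, ρ, rfl⟩ := ClassicalGeometry.PSUAutMain.exists_toAut hF hn h32 β
    obtain ⟨x, rfl⟩ := QuotientGroup.mk_surjective g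
    have h2 : toAut A ρ (QuotientGroup.mk x : PSU n K q) = QuotientGroup.mk (semiConj A ρ x) := rfl
    rw [h2, hη', hη']
    exact hcf_toAut hq hk hW₀ hc hcf' A ρ x

theorem three_cases [CharP K 2] {q : ℕ} (hq : Nat.card K = q ^ 2) : q % 3 = 1 ∨ q % 3 = 2 := by
  obtain ⟨s, hs0, hs⟩ := q_pow_two hq
  have h5 : ¬ 3 ∣ q := by
    rw [hs]
    intro h
    have := (Nat.prime_dvd_prime_iff_eq Nat.prime_three Nat.prime_two).1 (Nat.prime_three.dvd_of_dvd_pow h)
    omega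
  omega

theorem herm_T [CharP K 2] {q : ℕ} (hq : Nat.card K = q ^ 2) (n : ℕ) : (CForm.hermF K hq n).T 1 = 0 := by
  change (1 : K) + 1 ^ q = 0
  rw [one_pow, one_add_one_eq_two]
  exact_mod_cast CharP.cast_eq_zero K 2

theorem finite_Om {n q : ℕ} (hq : Nat.card K = q ^ 2) (k : ℕ) : Finite ((CForm.hermF K hq n).Om k) := by
  have : Finite (Submodule K (Fin n → K)) :=
    Finite.of_injective (fun W : Submodule K (Fin n → K) => (W : Set (Fin n → K))) SetLike.coe_injective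
  infer_instance

/-- **`PSU_n(q)`, `n ≥ 3`, `q ≡ 1 (mod 3)`** -/
theorem row2_psu_one [CharP K 2] (n q : ℕ) (hF : Fintype.card K = q ^ 2) (hn : 3 ≤ n) (h3 : q % 3 = 1) :
    Row2 (PSU n K q) := by
  classical
  have hq : Nat.card K = q ^ 2 := by rw [Nat.card_eq_fintype_card, hF]
  obtain ⟨m, rfl⟩ : ∃ m, n = 1 + (1 + m) := ⟨n - 2, by omega⟩
  obtain ⟨⟨W₁, hW₁⟩, -⟩ := CForm.hermF_frame (K := K) (p := 2) hq 1 m
  have hfi := finite_iso (CForm.hermF K hq (1 + (1 + m)))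
  let _ := Fintype.ofFinite (CForm.hermF K hq (1 + (1 + m))).iso
  have hfO := finite_Om (K := K) (n := 1 + (1 + m)) hq 1
  let _ := Fintype.ofFinite ((CForm.hermF K hq (1 + (1 + m))).Om 1)
  obtain ⟨c, hcf', hc, hc1, -, hz, t, ht, ht1, ht2⟩ := exists_one_herm' hq h3
  exact psu_row' hF hq hn (fun h => by have := h.2; omega) one_pos hW₁ hc hcf' hz
    (odd_Om_one _ hW₁ (Or.inl ⟨1, one_ne_zero, herm_T hq _⟩))
    (isIrr_sg_one _ (hdet_herm hF hq _) hc.irr hc1 hW₁ ht ht1 ht2)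

/-- **`PSU_n(q)`, `n ≥ 4`, `q` even** -/
theorem row2_psu_four [CharP K 2] (n q : ℕ) (hF : Fintype.card K = q ^ 2) (hn : 4 ≤ n) : Row2 (PSU n K q) := by
  classical
  have hq : Nat.card K = q ^ 2 := by rw [Nat.card_eq_fintype_card, hF]
  rcases three_cases hq with h3 | h3
  · exact row2_psu_one n q hF (by omega) h3
  obtain ⟨m, rfl⟩ : ∃ m, n = 2 + (2 + m) := ⟨n - 4, by omega⟩
  obtain ⟨⟨W, hW⟩, -⟩ := CForm.hermF_frame (K := K) (p := 2) hq 2 m
  have hfi := finite_iso (CForm.hermF K hq (2 + (2 + m)))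
  let _ := Fintype.ofFinite (CForm.hermF K hq (2 + (2 + m))).iso
  have hfO := finite_Om (K := K) (n := 2 + (2 + m)) hq 2
  let _ := Fintype.ofFinite ((CForm.hermF K hq (2 + (2 + m))).Om 2)
  obtain ⟨c, hcf', hc, hne, hz⟩ := exists_two_herm' hq h3
  exact psu_row' hF hq (by omega) (fun h => by have := h.1; omega) two_pos hW hc hcf' (fun z _ => hz z)
    (odd_Om_two _ hW (Or.inl ⟨1, one_ne_zero, herm_T hq _⟩))
    (isIrr_sg_two _ (hdet_herm hF hq _) hc.irr hc.cusp hne hz hW)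

end Cfsg.Agent.H802.R2
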