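import Cfsg.Agent.H852.R2.Slots
import Cfsg.Agent.H802.R2.FTwo

/-!
# S4829, `p = 2`: all slots (helper852, helper802)

helper151, 48, 103, 193, 226, 637 (`Sp₄(2^f)`), helper19, 583, 221 (orthogonal groups), helper310, 557 (`G₂`, `F₄`, `E₆`, `E₇`,
`E₈`), helper61 (`²E₆`, `³D₄`), helper226 (`²F₄`, `Sz`, Tits), helper852 (sporadic), engine helper655, 40, 151, 992, 673.
-/

set_option autoImplicit false

namespace Cfsg.Agent.H802.R2

open Cfsg Cfsg.Agent.H770.CY Cfsg.Agent.H776.CY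

/-- **all slots** -/
theorem slots : Slots :=
  H852.R2.slots_of_f4 fun F _ _ _ h => FTwo.row2_F4_two F (by rw [Nat.card_eq_fintype_card, h])

end Cfsg.Agent.H802.R2
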